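import Cfsg.Agent.Lib.LAEven57.PushingUp.Psl
import Cfsg.Agent.Lib.LAEven57.Basic
import Cfsg.Agent.Lib.Linear.Simple
import Cfsg.Agent.Lib.NumberTheory.Zsigmondy
import Cfsg.Agent.Lib.PGroups.Omega
import Cfsg.Agent.Lib.Transfer.Fusion

/-!
The basic pushing-up situation: structure of `S / O_p(G)` and the bound for its action on central modules.
-/

set_option autoImplicit false

open Cfsg
open scoped Pointwise

namespace Cfsg.Agent.Lib.LAEven57.PushingUp

open Cfsg.Agent.Lib.LA5.Basic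

variable {G : Type*} [Group G] [Finite G] {p : ℕ} [hp : Fact p.Prime] {S : Subgroup G}

/-- The data extracted from the pushing-up situation. -/
def IsData (p : ℕ) (S M : Subgroup G) (F : Type) [Field F] [Fintype F] (n : ℕ)
    (π : G →* PSL2 F) : Prop :=
  IsCoatom M ∧ S ≤ M ∧ (∀ M' : Subgroup G, IsCoatom M' → S ≤ M' → M' = M) ∧
    Fintype.card F = p ^ n ∧ Function.Surjective π ∧ S.map π = U F ∧ π.ker ≤ M ∧ S ⊓ π.ker = pCore p G

theorem coatom_eq {M : Subgroup G} (huniq : ∀ M' : Subgroup G, IsCoatom M' → S ≤ M' → M' = M)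
    {L : Subgroup G} (hSL : S ≤ L) (hL : L ≠ ⊤) : L ≤ M := by
  obtain ⟨M', hM', hLM'⟩ := (eq_top_or_exists_le_coatom L).resolve_left hL
  exact huniq M' hM' (hSL.trans hLM') ▸ hLM'

theorem orderOf_two_zmod_seven : orderOf ((2 : ℕ) : ZMod 7) = 3 := by
  haveI : Fact (Nat.Prime 3) := ⟨Nat.prime_three⟩
  exact orderOf_eq_prime (by decide) (by decide)

theorem zmod_two_cases : ∀ z : ZMod 2, z = 0 ∨ z = 1 := by decide

theorem normal_inf_le_pCore (hS : ∃ P : Sylow p G, (P : Subgroup G) = S) {M : Subgroup G} (hM : IsCoatom M)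
    (huniq : ∀ M' : Subgroup G, IsCoatom M' → S ≤ M' → M' = M) {N : Subgroup G} [N.Normal] (hN : N ≤ M) :
    N ⊓ S ≤ pCore p G := by
  obtain ⟨P, rfl⟩ := hS
  obtain ⟨T, hT⟩ := Cfsg.Agent.Lib.Transfer.Fusion.exists_sylow_map_eq_inf N P
  have h := Sylow.normalizer_sup_eq_top T
  rw [hT, inf_comm] at h
  have hS' : (P : Subgroup G) ≤ Subgroup.normalizer (((P : Subgroup G) ⊓ N : Subgroup G) : Set G) := by
    intro s hs
    refine mem_normalizer_iff_conj_eq.mpr (Subgroup.eq_of_le_of_card_ge ?_ (card_conj s _).ge)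
    rintro _ ⟨x, hx, rfl⟩
    exact ⟨(P : Subgroup G).mul_mem ((P : Subgroup G).mul_mem hs hx.1) ((P : Subgroup G).inv_mem hs),
      (inferInstance : N.Normal).conj_mem x hx.2 s⟩
  have hn : Subgroup.normalizer (((P : Subgroup G) ⊓ N : Subgroup G) : Set G) = ⊤ := by
    by_contra hne
    exact hM.1 (eq_top_iff.mpr (h.ge.trans (sup_le (coatom_eq huniq hS' hne) hN)))
  haveI := Subgroup.normalizer_eq_top_iff.mp hn
  rw [inf_comm]
  exact Cfsg.Agent.Lib.Cores.le_pCore (P.2.to_le inf_le_left)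

theorem exists_data (hE : IsPushingUpSituation p S) :
    ∃ (M : Subgroup G) (F : Type) (_ : Field F) (_ : Fintype F) (n : ℕ) (π : G →* PSL2 F),
      IsData p S M F n π := by
  obtain ⟨-, ⟨P, rfl⟩, -, ⟨M, ⟨hM, hPM⟩, huniq'⟩, K, hK, F, _, _, n, hF, ⟨e⟩⟩ := hE
  have huniq : ∀ M' : Subgroup G, IsCoatom M' → (P : Subgroup G) ≤ M' → M' = M :=
    fun M' h1 h2 => huniq' M' ⟨h1, h2⟩
  let π₀ : G →* PSL2 F := e.toMonoidHom.comp (QuotientGroup.mk' K)
  have hπ₀ : Function.Surjective π₀ := e.surjective.comp (QuotientGroup.mk'_surjective K)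
  obtain ⟨h, hh⟩ := MulAction.exists_smul_eq (PSL2 F) (P.mapSurjective hπ₀) (USylow hF)
  let π : G →* PSL2 F := (MulAut.conj h).toMonoidHom.comp π₀
  have hπ : Function.Surjective π := (MulAut.conj h).surjective.comp hπ₀
  have hPU : (P : Subgroup G).map π = U F := by
    have h1 := congrArg (fun Q : Sylow p (PSL2 F) => (Q : Subgroup (PSL2 F))) hh
    simp only [Sylow.coe_subgroup_smul, Sylow.coe_mapSurjective] at h1
    rw [← Subgroup.map_map]
    exact h1
  have hker : π.ker ≤ M := by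
    refine le_sup_left.trans (coatom_eq huniq (le_sup_right : _ ≤ π.ker ⊔ (P : Subgroup G)) ?_)
    intro htop
    have := congrArg (Subgroup.map π) htop
    rw [Subgroup.map_sup, Subgroup.map_top_of_surjective _ hπ, hPU,
      (Subgroup.map_eq_bot_iff _).mpr le_rfl, bot_sup_eq] at this
    exact U_ne_top this
  refine ⟨M, F, inferInstance, inferInstance, n, π, hM, hPM, huniq, hF, hπ, hPU, hker, ?_⟩
  refine le_antisymm ?_ (le_inf (Cfsg.Agent.Lib.Cores.pCore_le_sylow P) ?_)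
  · rw [inf_comm]; exact normal_inf_le_pCore ⟨P, rfl⟩ hM huniq hker
  · rw [← Subgroup.map_eq_bot_iff, eq_bot_iff, ← pCore_psl hF]
    exact Cfsg.Agent.Lib.Cores.map_pCore_le π hπ

variable {M : Subgroup G} {F : Type} [Field F] [Fintype F] {n : ℕ} {π : G →* PSL2 F}

theorem not_normal (h : IsData p S M F n π) : ¬ S.Normal := by
  intro hn
  obtain ⟨-, -, -, -, hπ, hPU, -, -⟩ := h
  exact U_not_normal (hPU ▸ hn.map π hπ)

theorem normalizer_le (h : IsData p S M F n π) : Subgroup.normalizer (S : Set G) ≤ M :=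
  coatom_eq h.2.2.1 Subgroup.le_normalizer fun e => not_normal h (Subgroup.normalizer_eq_top_iff.mp e)

theorem card_S (h : IsData p S M F n π) : Nat.card ↥S = p ^ n * Nat.card ↥(pCore p G) := by
  obtain ⟨-, -, -, hF, -, hPU, -, hk⟩ := h
  have h1 := (π.comp S.subtype).ker.index_mul_card
  rw [Subgroup.index_ker, MonoidHom.range_comp, Subgroup.range_subtype, hPU, card_U hF] at h1
  rw [← h1]
  congr 1
  rw [← hk, ← Subgroup.card_map_of_injective S.subtype_injective, ← MonoidHom.comap_ker,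
    Subgroup.map_comap_eq, Subgroup.range_subtype]

theorem conj_eq_of_sylow (hS : ∃ P : Sylow p G, (P : Subgroup G) = S) {L : Subgroup G} (hSL : S ≤ L) {g : G}
    (hg : S.map (MulAut.conj g).toMonoidHom ≤ L) :
    ∃ l ∈ L, l * g ∈ Subgroup.normalizer (S : Set G) := by
  obtain ⟨P, rfl⟩ := hS
  obtain ⟨l, hl⟩ := MulAction.exists_smul_eq ↥L ((g • P).subtype (by rwa [Sylow.coe_subgroup_smul]))
    (P.subtype hSL)
  rw [Sylow.smul_subtype] at hl
  have hl' := congrArg (fun Q : Subgroup G => Q) (congrArg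
    (fun Q : Sylow p ↥L => (Q : Subgroup ↥L).map L.subtype) hl)
  refine ⟨l, l.2, ?_⟩
  refine Sylow.smul_eq_iff_mem_normalizer.mp ?_
  apply Sylow.ext
  rw [mul_smul]
  simp only [Sylow.coe_subtype, Subgroup.subgroupOf_map_subtype] at hl'
  rw [inf_eq_left.mpr hSL] at hl'
  refine Eq.trans ?_ hl'
  refine (inf_eq_left.mpr ?_).symm
  intro x hx
  rw [Sylow.coe_subgroup_smul] at hx
  obtain ⟨y, hy, rfl⟩ := hx
  have hyL : y ∈ L := by
    rw [Sylow.coe_subgroup_smul] at hy
    exact hg hy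
  exact L.mul_mem (L.mul_mem l.2 hyL) (L.inv_mem l.2)

/-- Lifts of torus elements normalizing `S`. -/
theorem exists_torus (hS : ∃ P : Sylow p G, (P : Subgroup G) = S) (h : IsData p S M F n π) {a : F} (ha : a ≠ 0) :
    ∃ g ∈ Subgroup.normalizer (S : Set G), ∀ (s : G) (x : F), π s = uHom F (Multiplicative.ofAdd x) →
      π (g * s * g⁻¹) = uHom F (Multiplicative.ofAdd (a ^ 2 * x)) := by
  obtain ⟨-, -, -, -, hπ, hPU, -, -⟩ := h
  obtain ⟨g₀, hg₀⟩ := hπ (QuotientGroup.mk' _ (dMat a ha))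
  have key : ∀ (s : G) (x : F), π s = uHom F (Multiplicative.ofAdd x) →
      π (g₀ * s * g₀⁻¹) = uHom F (Multiplicative.ofAdd (a ^ 2 * x)) := by
    intro s x hs
    rw [map_mul, map_mul, map_inv, hg₀, hs, uHom_apply, uHom_apply, ← map_inv, ← map_mul, ← map_mul,
      dMat_conj, mul_inv_cancel_right]
  have hle : S.map (MulAut.conj g₀).toMonoidHom ≤ (U F).comap π := by
    rintro _ ⟨s, hs, rfl⟩
    obtain ⟨x, hx⟩ : π s ∈ U F := hPU ▸ ⟨s, hs, rfl⟩
    exact ⟨_, (key s x.toAdd hx.symm).symm⟩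
  obtain ⟨l, hl, hlg⟩ := conj_eq_of_sylow hS (Subgroup.map_le_iff_le_comap.mp hPU.le) hle
  refine ⟨l * g₀, hlg, fun s x hs => ?_⟩
  obtain ⟨y, hy⟩ := hl
  rw [show l * g₀ * s * (l * g₀)⁻¹ = l * (g₀ * s * g₀⁻¹) * l⁻¹ by group, map_mul, map_mul, map_inv,
    key s x hs, ← hy, ← map_inv, ← map_mul, ← map_mul, mul_comm, ← mul_assoc, inv_mul_cancel, one_mul]

theorem exists_eq_sq_sub (x : F) : ∃ b c : F, x = b ^ 2 - c ^ 2 := by
  by_cases h2 : (2 : F) = 0
  · haveI : CharP F 2 := CharTwo.of_one_ne_zero_of_two_eq_zero one_ne_zero h2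
    obtain ⟨b, hb⟩ := FiniteField.isSquare_of_char_two (ringChar.eq F 2) x
    exact ⟨b, 0, by rw [hb]; ring⟩
  · exact ⟨(x + 1) / 2, (x - 1) / 2, by field_simp; ring⟩

/-- `N_G(S)` acts irreducibly on `S / O_p(G)`. -/
theorem irreducible (hS : ∃ P : Sylow p G, (P : Subgroup G) = S) (h : IsData p S M F n π) {H : Subgroup G}
    (hPH : pCore p G ≤ H) (hHS : H ≤ S)
    (hN : ∀ g ∈ Subgroup.normalizer (S : Set G), ∀ x ∈ H, g * x * g⁻¹ ∈ H) :
    H = pCore p G ∨ H = S := by
  have hPU : S.map π = U F := h.2.2.2.2.2.1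
  have hk : S ⊓ π.ker = pCore p G := h.2.2.2.2.2.2.2
  by_cases hH : H.map π = ⊥
  · exact Or.inl (le_antisymm (hk ▸ le_inf hHS ((Subgroup.map_eq_bot_iff _).mp hH)) hPH)
  right
  let W : Set F := {x | uHom F (Multiplicative.ofAdd x) ∈ H.map π}
  have hWadd : ∀ x y, x ∈ W → y ∈ W → x - y ∈ W := fun x y hx hy => by
    show uHom F (Multiplicative.ofAdd (x - y)) ∈ H.map π
    rw [ofAdd_sub, map_div]; exact Subgroup.div_mem _ hx hy
  have hWsq : ∀ b x, x ∈ W → b ^ 2 * x ∈ W := by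
    intro b x hx
    by_cases hb : b = 0
    · have := hWadd x x hx hx
      simpa [hb] using this
    obtain ⟨g, hg, hgx⟩ := exists_torus hS h hb
    obtain ⟨s, hs, hsx⟩ := hx
    exact ⟨g * s * g⁻¹, hN g hg s hs, hgx s x hsx⟩
  have hWmul : ∀ b x, x ∈ W → b * x ∈ W := by
    intro b x hx
    obtain ⟨c, d, rfl⟩ := exists_eq_sq_sub b
    rw [sub_mul]; exact hWadd _ _ (hWsq c x hx) (hWsq d x hx)
  obtain ⟨y, hy, hy1⟩ : ∃ y ∈ H.map π, y ≠ 1 := by
    by_contra hc
    push Not at hc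
    exact hH ((Subgroup.eq_bot_iff_forall _).mpr hc)
  obtain ⟨x₀, hx₀⟩ : y ∈ U F := hPU ▸ Subgroup.map_mono hHS hy
  have hx0 : x₀.toAdd ≠ 0 := fun e => hy1 (by rw [← hx₀, show x₀ = 1 from e, map_one])
  have hall : ∀ x : F, x ∈ W := fun x => by
    have hx0W : x₀.toAdd ∈ W := by
      show uHom F (Multiplicative.ofAdd x₀.toAdd) ∈ H.map π
      rw [ofAdd_toAdd, hx₀]; exact hy
    have := hWmul (x / x₀.toAdd) _ hx0W
    rwa [div_mul_cancel₀ _ hx0] at this
  refine le_antisymm hHS fun s hs => ?_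
  obtain ⟨x, hx⟩ : π s ∈ U F := hPU ▸ ⟨s, hs, rfl⟩
  obtain ⟨t, ht, htx⟩ := hall x.toAdd
  have htx' : π t = π s := htx.trans hx
  have h1 : t⁻¹ * s ∈ S ⊓ π.ker :=
    ⟨S.mul_mem (S.inv_mem (hHS ht)) hs, MonoidHom.mem_ker.mpr (by rw [map_mul, map_inv, htx', inv_mul_cancel])⟩
  have := H.mul_mem ht (hPH (hk ▸ h1))
  simpa using this

omit hp in
/-- Elements of order prime to `p` fixing the commutators centralize the group of exponent dividing a power of `p`. -/
theorem pow_conj_of_comm {d v c : G} (hc : Commute d c) (h : d * v * d⁻¹ = c * v) (k : ℕ) :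
    d ^ k * v * (d ^ k)⁻¹ = c ^ k * v := by
  induction k with
  | zero => simp
  | succ k ih =>
    calc d ^ (k + 1) * v * (d ^ (k + 1))⁻¹ = d * (d ^ k * v * (d ^ k)⁻¹) * d⁻¹ := by rw [pow_succ']; group
      _ = d * (c ^ k * v) * d⁻¹ := by rw [ih]
      _ = (d * c ^ k) * v * d⁻¹ := by group
      _ = (c ^ k * d) * v * d⁻¹ := by rw [(hc.pow_right k).eq]
      _ = c ^ k * (d * v * d⁻¹) := by group
      _ = c ^ (k + 1) * v := by rw [h, pow_succ, mul_assoc]

theorem commute_of_stabilizes {A : Subgroup G} (hA : IsPGroup p ↥A) {d v : G}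
    (hd : (orderOf d).Coprime p) (hc : d * v * d⁻¹ * v⁻¹ ∈ A)
    (hcd : Commute d (d * v * d⁻¹ * v⁻¹)) : Commute d v := by
  set c := d * v * d⁻¹ * v⁻¹ with hcdef
  have h1 := pow_conj_of_comm (v := v) hcd (by rw [hcdef]; group) (orderOf d)
  rw [pow_orderOf_eq_one] at h1
  simp only [one_mul, inv_one, mul_one] at h1
  have h2 : c ^ orderOf d = 1 := by
    simpa using mul_right_cancel (b := v) ((one_mul v).trans h1).symm
  obtain ⟨k, hk⟩ := hA ⟨c, hc⟩
  have h3 : c ^ p ^ k = 1 := congrArg Subtype.val hk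
  have h4 : c = 1 := by
    have := pow_gcd_eq_one.mpr ⟨h2, h3⟩
    rwa [Nat.coprime_iff_gcd_eq_one.mp (hd.pow_right k), pow_one] at this
  show d * v = v * d
  calc d * v = c * v * d := by rw [hcdef]; group
    _ = v * d := by rw [h4, one_mul]

/-- If the elements of order prime to `p` of a normal subgroup lie in a normal subgroup below `M`, so does it. -/
theorem normal_le_of_pprime (hS : ∃ P : Sylow p G, (P : Subgroup G) = S) (N L : Subgroup G) [N.Normal]
    [L.Normal] (hle : ∀ d ∈ N, (orderOf d).Coprime p → d ∈ L) : N ≤ L ⊔ S := by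
  obtain ⟨P, rfl⟩ := hS
  have hq := QuotientGroup.mk'_surjective L
  haveI : (N.map (QuotientGroup.mk' L)).Normal := (inferInstance : N.Normal).map _ hq
  have hpg : IsPGroup p ↥(N.map (QuotientGroup.mk' L)) := by
    rintro ⟨_, d, hd, rfl⟩
    refine ⟨(orderOf d).factorization p, Subtype.ext ?_⟩
    show (QuotientGroup.mk' L d) ^ p ^ (orderOf d).factorization p = 1
    rw [← map_pow]
    refine (QuotientGroup.eq_one_iff _).mpr (hle _ (N.pow_mem hd _) ?_)
    rw [orderOf_pow_of_dvd (pow_ne_zero _ hp.out.ne_zero) (Nat.ordProj_dvd _ _)]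
    exact (Nat.coprime_ordCompl hp.out (orderOf_pos d).ne').symm
  have h1 : N.map (QuotientGroup.mk' L) ≤ (P.mapSurjective hq : Subgroup (G ⧸ L)) :=
    (Cfsg.Agent.Lib.Cores.le_pCore hpg).trans (Cfsg.Agent.Lib.Cores.pCore_le_sylow _)
  intro d hd
  have h2 := h1 ⟨d, hd, rfl⟩
  rw [Sylow.coe_mapSurjective] at h2
  obtain ⟨s, hs, hsd⟩ := h2
  have h3 : s⁻¹ * d ∈ L := QuotientGroup.eq.mp hsd
  have := Subgroup.mul_mem (L ⊔ (P : Subgroup G)) (Subgroup.mem_sup_right hs) (Subgroup.mem_sup_left h3)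
  simpa using this

theorem modEq_card_inf_centralizer {H : Type*} [Group H] [Finite H] {r : ℕ} [Fact r.Prime] (W : Subgroup H)
    {y : H} (hy : y ∈ Subgroup.normalizer (W : Set H)) (hr : IsPGroup r ↥(Subgroup.zpowers y)) :
    Nat.card ↥W ≡ Nat.card ↥(W ⊓ Subgroup.centralizer ({y} : Set H)) [MOD r] := by
  let φ : ↥(Subgroup.zpowers y) →* MulAut ↥W :=
    W.normalizerMonoidHom.comp (Subgroup.inclusion (Subgroup.zpowers_le.mpr hy))
  letI : MulAction ↥(Subgroup.zpowers y) ↥W := MulAction.compHom _ φ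
  have hsm : ∀ (g : ↥(Subgroup.zpowers y)) (w : ↥W), ((g • w : ↥W) : H) = g * w * (g : H)⁻¹ := fun _ _ => rfl
  suffices e : Nat.card (MulAction.fixedPoints ↥(Subgroup.zpowers y) ↥W) =
      Nat.card ↥(W ⊓ Subgroup.centralizer ({y} : Set H)) from e ▸ hr.card_modEq_card_fixedPoints ↥W
  refine Nat.card_congr
    { toFun := fun w => ⟨w.1.1, w.1.2, Subgroup.mem_centralizer_singleton_iff.mpr ?_⟩
      invFun := fun w => ⟨⟨w.1, w.2.1⟩, ?_⟩
      left_inv := fun w => rfl
      right_inv := fun w => rfl }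
  · have h := congrArg Subtype.val (w.2 ⟨y, Subgroup.mem_zpowers y⟩)
    rw [hsm] at h
    exact (mul_inv_eq_iff_eq_mul.mp h).symm
  · intro g
    apply Subtype.ext
    rw [hsm]
    obtain ⟨k, hk⟩ := g.2
    show (g : H) * w.1 * (g : H)⁻¹ = w.1
    rw [← hk]
    have hc : Commute y w.1 := (Subgroup.mem_centralizer_singleton_iff.mp w.2.2).symm
    rw [(hc.zpow_left k).eq, mul_inv_cancel_right]

/-- `S / O_p(G)` is no bigger than the module modulo its fixed points. -/
theorem card_S_mul_fix_le (hS : ∃ P : Sylow p G, (P : Subgroup G) = S) (h : IsData p S M F n π)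
    (V : Subgroup G) [hVn : V.Normal] (hV : IsElementaryAbelian p V)
    (hVP : pCore p G ≤ Subgroup.centralizer (V : Set G)) (hC : Subgroup.centralizer (V : Set G) ≤ M) :
    Nat.card ↥S * Nat.card ↥(V ⊓ Subgroup.centralizer (S : Set G)) ≤
      Nat.card ↥(pCore p G) * Nat.card ↥V := by
  classical
  obtain ⟨hM, hSM, huniq, hF, hπ, hPU, hker, hk⟩ := id h
  set C₀ := V ⊓ Subgroup.centralizer (S : Set G) with hC₀
  set V₀ := V ⊓ Subgroup.center G with hV₀
  rw [card_S h]
  suffices hmain : p ^ n * Nat.card ↥C₀ ≤ Nat.card ↥V by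
    calc p ^ n * Nat.card ↥(pCore p G) * Nat.card ↥C₀
        = Nat.card ↥(pCore p G) * (p ^ n * Nat.card ↥C₀) := by ring
      _ ≤ _ := Nat.mul_le_mul_left _ hmain
  have hVp : IsPGroup p ↥V := Cfsg.Agent.Lib.PGroups.elemAb_isPGroup hV
  obtain ⟨m, hm⟩ := IsPGroup.iff_card.mp hVp
  obtain ⟨a, ha⟩ := IsPGroup.iff_card.mp (hVp.to_le (inf_le_left : C₀ ≤ V))
  obtain ⟨b, hb⟩ := IsPGroup.iff_card.mp (hVp.to_le (inf_le_left : V₀ ≤ V))
  have hp1 := hp.out.one_lt
  rw [ha, hm, ← pow_add]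
  refine Nat.pow_le_pow_right hp.out.pos ?_
  -- the fixed points of two Sylow subgroups
  obtain ⟨g, hg⟩ : ∃ g : G, g ∉ M := by
    by_contra hc
    push Not at hc
    exact hM.1 (eq_top_iff.mpr fun x _ => hc x)
  have hgen : S ⊔ S.map (MulAut.conj g).toMonoidHom = ⊤ := by
    by_contra hne
    have hle := coatom_eq huniq le_sup_left hne
    obtain ⟨l, hl, hlg⟩ := conj_eq_of_sylow hS hSM (le_sup_right.trans hle)
    exact hg (by simpa using M.mul_mem (M.inv_mem hl) (normalizer_le h hlg))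
  set C₁ := C₀.map (MulAut.conj g).toMonoidHom with hC₁
  have hC₁V : C₁ ≤ V := by
    rintro _ ⟨v, hv, rfl⟩; exact hVn.conj_mem v hv.1 g
  have h01 : C₀ ⊓ C₁ ≤ V₀ := by
    intro v hv
    refine ⟨hv.1.1, ?_⟩
    rw [← Subgroup.centralizer_univ, ← Subgroup.coe_top, ← hgen, centralizer_sup, centralizer_conj]
    obtain ⟨u, hu, rfl⟩ := hv.2
    exact ⟨hv.1.2, ⟨u, hu.2, rfl⟩⟩
  have hsq : a + a ≤ m + b := by
    have h1 := (card_mul_le_card_sup_mul_card_inf C₀ C₁).trans
      (Nat.mul_le_mul (Subgroup.card_le_of_le (sup_le inf_le_left hC₁V)) (Subgroup.card_le_of_le h01))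
    rw [hC₁, card_conj, ha, hm, hb, ← pow_add, ← pow_add] at h1
    exact (Nat.pow_le_pow_iff_right hp1).mp h1
  have hV₀C : V₀ ≤ C₀ := le_inf inf_le_left (inf_le_right.trans
    (by rw [← Subgroup.centralizer_univ, ← Subgroup.coe_top]; exact Subgroup.centralizer_le (Set.subset_univ _)))
  have hba : b ≤ a := by
    have := Subgroup.card_le_of_le hV₀C
    rw [hb, ha] at this
    exact (Nat.pow_le_pow_iff_right hp1).mp this
  rcases Nat.lt_or_ge 1 n with hn | hn
  swap
  · -- a field of prime order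
    have ham : a < m := by
      by_contra hlt
      have heq : C₀ = V := Subgroup.eq_of_le_of_card_ge inf_le_left
        (by rw [ha, hm]; exact Nat.pow_le_pow_right hp.out.pos (not_lt.mp hlt))
      have hle : S ≤ Subgroup.centralizer (V : Set G) :=
        Subgroup.le_centralizer_iff.mp (heq ▸ inf_le_right)
      haveI : (Subgroup.centralizer (V : Set G)).Normal := inferInstance
      have h1 : S ≤ S ⊓ π.ker := hk.symm ▸ ((le_inf hle le_rfl).trans (normal_inf_le_pCore hS hM huniq hC))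
      have h2 : U F = ⊥ := by
        rw [← hPU]; exact (Subgroup.map_eq_bot_iff _).mpr (h1.trans inf_le_right)
      have := card_U (F := F) hF
      rw [h2, Subgroup.card_bot] at this
      exact absurd this (Nat.one_lt_pow (n_pos hF).ne' hp1).ne
    omega
  -- elements acting nontrivially on `V / V₀`
  haveI : V₀.Normal := inferInstance
  set q := QuotientGroup.mk' V₀ with hq
  set W := V.map q with hW
  haveI : W.Normal := hVn.map q (QuotientGroup.mk'_surjective _)
  set D := (Subgroup.centralizer (W : Set (G ⧸ V₀))).comap q with hD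
  have hDmem : ∀ {d : G}, d ∈ D → ∀ v ∈ V, d * v * d⁻¹ * v⁻¹ ∈ V₀ := by
    intro d hd v hv
    have h1 := Subgroup.mem_centralizer_iff.mp (Subgroup.mem_comap.mp hd) (q v) ⟨v, hv, rfl⟩
    refine (QuotientGroup.eq_one_iff _).mp ?_
    show q (d * v * d⁻¹ * v⁻¹) = 1
    rw [map_mul, map_mul, map_mul, map_inv, map_inv, ← h1]; group
  have hDM : D ≤ M := by
    refine (normal_le_of_pprime hS D (Subgroup.centralizer (V : Set G)) fun d hd hcop => ?_).trans (sup_le hC hSM)
    refine Subgroup.mem_centralizer_iff.mpr fun v hv => ?_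
    have h1 := hDmem hd v hv
    exact (commute_of_stabilizes hVp hcop h1.1 (Subgroup.mem_center_iff.mp h1.2 d)).eq.symm
  have hq4 : 4 ≤ Nat.card F := by
    rw [Nat.card_eq_fintype_card, hF]
    calc 4 = 2 ^ 2 := rfl
      _ ≤ p ^ 2 := Nat.pow_le_pow_left hp.out.two_le 2
      _ ≤ p ^ n := Nat.pow_le_pow_right hp.out.pos hn
  haveI : IsSimpleGroup (PSL2 F) := Cfsg.Agent.Lib.Linear.isSimpleGroup_PSL le_rfl fun _ => hq4
  have hDker : D ≤ π.ker := by
    rcases ((inferInstance : D.Normal).map π hπ).eq_bot_or_eq_top with e | e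
    · exact (Subgroup.map_eq_bot_iff _).mp e
    · refine absurd (eq_top_iff.mpr fun x _ => ?_) hM.1
      obtain ⟨d, hd, hdx⟩ : π x ∈ D.map π := e ▸ Subgroup.mem_top _
      have h1 : d⁻¹ * x ∈ π.ker := by rw [MonoidHom.mem_ker, map_mul, map_inv, hdx, inv_mul_cancel]
      have := M.mul_mem (hDM hd) (hker h1)
      simpa using this
  have hWcard : ∀ {A : Subgroup G}, V₀ ≤ A → Nat.card ↥(A.map q) * p ^ b = Nat.card ↥A := by
    intro A hA
    have h1 := (q.comp A.subtype).ker.index_mul_card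
    rw [Subgroup.index_ker, MonoidHom.range_comp, Subgroup.range_subtype] at h1
    rw [← hb, ← h1]
    congr 1
    rw [← Nat.card_congr (Subgroup.subgroupOfEquivOfLe hA).toEquiv, ← MonoidHom.comap_ker, hq,
      QuotientGroup.ker_mk']
    rfl
  obtain ⟨w, hw⟩ := IsPGroup.iff_card.mp (hVp.map q)
  have hwb : w + b = m := by
    have := hWcard (inf_le_left : V₀ ≤ V)
    rw [← hW, hw, hm, ← pow_add] at this
    exact Nat.pow_right_injective hp.out.two_le this
  -- counting with an element of prime-power order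
  have count : ∀ (r : ℕ) [Fact r.Prime] (k₀ : ℕ), r ≠ p → orderOf (p : ZMod r) = k₀ →
      ∀ y : G, π y ≠ 1 → IsPGroup r ↥(Subgroup.zpowers y) →
      ∃ j, Nat.card ↥(W ⊓ Subgroup.centralizer ({q y} : Set (G ⧸ V₀))) = p ^ j ∧ j + k₀ ≤ w := by
    intro r _ k₀ hrp hk₀ y hy hry
    obtain ⟨j, hj⟩ := IsPGroup.iff_card.mp ((hVp.map q).to_le
      (inf_le_left : W ⊓ Subgroup.centralizer ({q y} : Set (G ⧸ V₀)) ≤ W))
    refine ⟨j, hj, ?_⟩
    have hlt : j < w := by
      by_contra hge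
      have heq := Subgroup.eq_of_le_of_card_ge (inf_le_left : W ⊓ Subgroup.centralizer ({q y} : Set (G ⧸ V₀)) ≤ W)
        (by rw [hj, hw]; exact Nat.pow_le_pow_right hp.out.pos (not_lt.mp hge))
      refine hy (hDker ?_)
      refine Subgroup.mem_centralizer_iff.mpr fun z hz => ?_
      have h2 : z ∈ W ⊓ Subgroup.centralizer ({q y} : Set (G ⧸ V₀)) := by rw [heq]; exact hz
      exact Subgroup.mem_centralizer_singleton_iff.mp h2.2
    have hyq : IsPGroup r ↥(Subgroup.zpowers (q y)) := by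
      rw [← MonoidHom.map_zpowers]; exact hry.map q
    have h1 := modEq_card_inf_centralizer W (y := q y)
      (by rw [Subgroup.normalizer_eq_top_iff.mpr inferInstance]; exact Subgroup.mem_top _) hyq
    rw [hj, hw] at h1
    have hp0 : (p : ZMod r) ≠ 0 := by
      rw [Ne, ZMod.natCast_eq_zero_iff]
      exact fun hd => hrp ((Nat.prime_dvd_prime_iff_eq Fact.out hp.out).mp hd)
    have h2 : (p : ZMod r) ^ (w - j) = 1 := by
      have h3 := (ZMod.natCast_eq_natCast_iff _ _ _).mpr h1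
      push_cast at h3
      rw [show w = (w - j) + j by omega, pow_add] at h3
      exact mul_right_cancel₀ (pow_ne_zero j hp0) (h3.trans (one_mul _).symm)
    have := Nat.le_of_dvd (by omega) (hk₀ ▸ orderOf_dvd_of_pow_eq_one h2)
    omega
  have rpart : ∀ (r : ℕ) [Fact r.Prime] (x : G), orderOf (π x) = r →
      ∃ k : ℕ, π (x ^ k) ≠ 1 ∧ IsPGroup r ↥(Subgroup.zpowers (x ^ k)) := by
    intro r hr x hx
    have hd := orderOf_map_dvd π x
    rw [hx] at hd
    refine ⟨orderOf x / r ^ (orderOf x).factorization r, ?_, ?_⟩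
    · rw [map_pow, Ne, ← orderOf_dvd_iff_pow_eq_one, hx]
      exact Nat.not_dvd_ordCompl hr.out (orderOf_pos x).ne'
    · refine IsPGroup.of_card (n := (orderOf x).factorization r) ?_
      rw [Nat.card_zpowers, orderOf_pow_of_dvd (Nat.div_pos (Nat.le_of_dvd (orderOf_pos x) (Nat.ordProj_dvd _ _))
        (pow_pos hr.out.pos _)).ne' (Nat.div_dvd_of_dvd (Nat.ordProj_dvd _ _)),
        Nat.div_div_self (Nat.ordProj_dvd _ _) (orderOf_pos x).ne']
  by_cases h86 : p = 2 ∧ n = 3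
  · obtain ⟨rfl, rfl⟩ := h86
    haveI : Fact (Nat.Prime 7) := ⟨by decide⟩
    obtain ⟨c, hc0, hc1⟩ : ∃ c : F, c ≠ 0 ∧ c ^ 2 ≠ 1 := by
      by_contra hcon
      push Not at hcon
      have hsub : ∀ c : F, c = 0 ∨ c = 1 ∨ c = -1 := fun c => by
        rcases eq_or_ne c 0 with h0 | h0
        · exact Or.inl h0
        · exact Or.inr (sq_eq_one_iff.mp (hcon c h0))
      have : Fintype.card F ≤ ({0, 1, -1} : Finset F).card :=
        Finset.card_le_card (s := Finset.univ) fun c _ => by simpa using hsub c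
      rw [hF] at this
      have h3 := Finset.card_le_three (a := (0 : F)) (b := 1) (c := -1)
      omega
    obtain ⟨t, ht, htx⟩ := exists_torus hS h hc0
    -- an element of order a power of seven normalizing `S`
    have hiter : ∀ (k : ℕ) (s : G) (x : F), π s = uHom F (Multiplicative.ofAdd x) →
        π (t ^ k * s * (t ^ k)⁻¹) = uHom F (Multiplicative.ofAdd ((c ^ 2) ^ k * x)) := by
      intro k
      induction k with
      | zero => intro s x hs; simpa using hs
      | succ k ih =>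
        intro s x hs
        rw [show t ^ (k + 1) * s * (t ^ (k + 1))⁻¹ = t * (t ^ k * s * (t ^ k)⁻¹) * t⁻¹ by rw [pow_succ']; group,
          htx _ _ (ih s x hs), ← mul_assoc, ← pow_succ']
    set e := orderOf t / 7 ^ (orderOf t).factorization 7 with he
    have hep : IsPGroup 7 ↥(Subgroup.zpowers (t ^ e)) := by
      refine IsPGroup.of_card (n := (orderOf t).factorization 7) ?_
      rw [Nat.card_zpowers, orderOf_pow_of_dvd (Nat.div_pos (Nat.le_of_dvd (orderOf_pos t) (Nat.ordProj_dvd _ _))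
        (pow_pos (by norm_num) _)).ne' (Nat.div_dvd_of_dvd (Nat.ordProj_dvd _ _)),
        Nat.div_div_self (Nat.ordProj_dvd _ _) (orderOf_pos t).ne']
    have hπt : π (t ^ e) ≠ 1 := by
      intro h1
      obtain ⟨s, hs, hsx⟩ : uHom F (Multiplicative.ofAdd 1) ∈ S.map π := hPU.symm ▸ ⟨_, rfl⟩
      have h2 := hiter e s 1 hsx
      rw [map_mul, map_mul, map_inv, h1, hsx, one_mul, inv_one, mul_one, mul_one] at h2
      have h3 : (c ^ 2) ^ e = 1 := (Multiplicative.ofAdd.injective (uHom_injective h2)).symm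
      have h7 : (c ^ 2) ^ 7 = 1 := by
        rw [← pow_mul, pow_mul', show (7 : ℕ) = Fintype.card F - 1 by rw [hF]; rfl,
          FiniteField.pow_card_sub_one_eq_one c hc0, one_pow]
      have hco : Nat.Coprime 7 e := Nat.coprime_ordCompl (by decide) (orderOf_pos t).ne'
      exact hc1 (by simpa [hco.gcd_eq_one] using pow_gcd_eq_one.mpr ⟨h7, h3⟩)
    have h7 : orderOf ((2 : ℕ) : ZMod 7) = 3 := orderOf_two_zmod_seven
    obtain ⟨j, hj, hjw⟩ := count 7 3 (by norm_num) h7 _ hπt hep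
    -- the fixed points of `S` modulo `V₀`
    obtain ⟨w₀, hw₀⟩ := IsPGroup.iff_card.mp ((hVp.to_le (inf_le_left : C₀ ≤ V)).map q)
    have hw₀b : w₀ + b = a := by
      have := hWcard hV₀C
      rw [hw₀, ha, ← pow_add] at this
      exact Nat.pow_right_injective (by norm_num) this
    by_contra hcon
    have htn : q (t ^ e) ∈ Subgroup.normalizer ((C₀.map q : Subgroup (G ⧸ V₀)) : Set (G ⧸ V₀)) := by
      refine mem_normalizer_iff_conj_eq.mpr (Subgroup.eq_of_le_of_card_ge ?_ (card_conj _ _).ge)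
      rintro _ ⟨_, ⟨v, hv, rfl⟩, rfl⟩
      refine ⟨t ^ e * v * (t ^ e)⁻¹, ⟨hVn.conj_mem v hv.1 _, Subgroup.mem_centralizer_iff.mpr fun s hs => ?_⟩, ?_⟩
      · have hs' := (Subgroup.mem_normalizer_iff.mp (Subgroup.inv_mem _ (Subgroup.pow_mem _ ht e)) s).mp hs
        rw [inv_inv] at hs'
        have h1 := Subgroup.mem_centralizer_iff.mp hv.2 _ hs'
        calc s * (t ^ e * v * (t ^ e)⁻¹) = t ^ e * (((t ^ e)⁻¹ * s * t ^ e) * v) * (t ^ e)⁻¹ := by group
          _ = t ^ e * (v * ((t ^ e)⁻¹ * s * t ^ e)) * (t ^ e)⁻¹ := by rw [h1]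
          _ = _ := by group
      · show q (t ^ e * v * (t ^ e)⁻¹) = q (t ^ e) * q v * (q (t ^ e))⁻¹
        rw [map_mul, map_mul, map_inv]
    have h1 := modEq_card_inf_centralizer (C₀.map q) htn (by rw [← MonoidHom.map_zpowers]; exact hep.map q)
    obtain ⟨j₀, hj₀⟩ := IsPGroup.iff_card.mp (((hVp.to_le (inf_le_left : C₀ ≤ V)).map q).to_le
      (inf_le_left : C₀.map q ⊓ Subgroup.centralizer ({q (t ^ e)} : Set (G ⧸ V₀)) ≤ C₀.map q))
    rw [hw₀, hj₀] at h1
    have hj₀w : j₀ ≤ w₀ := by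
      have := Subgroup.card_le_of_le
        (inf_le_left : C₀.map q ⊓ Subgroup.centralizer ({q (t ^ e)} : Set (G ⧸ V₀)) ≤ C₀.map q)
      rw [hw₀, hj₀] at this
      exact (Nat.pow_le_pow_iff_right hp1).mp this
    have hw₀2 : w₀ ≤ 2 := by omega
    have hj₀eq : j₀ = w₀ := by
      have hj2 : j₀ ≤ 2 := by omega
      interval_cases w₀ <;> interval_cases j₀ <;> first | rfl | (revert h1; decide)
    have hsub := Subgroup.eq_of_le_of_card_ge
      (inf_le_left : C₀.map q ⊓ Subgroup.centralizer ({q (t ^ e)} : Set (G ⧸ V₀)) ≤ C₀.map q)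
      (by rw [hj₀, hw₀, hj₀eq])
    have hw₀j : w₀ ≤ j := by
      have := Subgroup.card_le_of_le
        (show C₀.map q ≤ W ⊓ Subgroup.centralizer ({q (t ^ e)} : Set (G ⧸ V₀)) from
          le_inf (Subgroup.map_mono inf_le_left) (hsub ▸ inf_le_right))
      rw [hw₀, hj] at this
      exact (Nat.pow_le_pow_iff_right hp1).mp this
    omega
  -- a primitive prime divisor
  obtain ⟨r, hr, hro⟩ := Cfsg.Agent.Lib.NumberTheory.exists_primitive_prime (q := p) (n := 2 * n)
    hp.out.two_le (by omega) (fun e => h86 ⟨e.1, by omega⟩) (fun e => by omega)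
  haveI : Fact r.Prime := ⟨hr⟩
  have h2n : (p : ZMod r) ^ (2 * n) = 1 := hro ▸ pow_orderOf_eq_one _
  have hrdvd : r ∣ p ^ n + 1 := by
    have h1 : ((p : ZMod r) ^ n - 1) * ((p : ZMod r) ^ n + 1) = 0 := by
      rw [← sq_sub_sq ((p : ZMod r) ^ n) 1 |>.trans (mul_comm _ _), ← pow_mul, mul_comm n 2, h2n]; ring
    rcases mul_eq_zero.mp h1 with e | e
    · have := Nat.le_of_dvd (n_pos hF) (hro ▸ orderOf_dvd_of_pow_eq_one (sub_eq_zero.mp e))
      omega
    · rw [← ZMod.natCast_eq_zero_iff]; push_cast; exact e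
  have hrp : r ≠ p := by
    rintro rfl
    have := h2n
    rw [ZMod.natCast_self, zero_pow (by omega)] at this
    exact zero_ne_one this
  have hr2 : r ≠ 2 := by
    rintro rfl
    have : orderOf (p : ZMod 2) ≤ 1 := by
      rcases (zmod_two_cases (p : ZMod 2)) with e | e
      · rw [e, zero_pow (by omega)] at h2n; exact absurd h2n zero_ne_one
      · rw [e, orderOf_one]
    omega
  obtain ⟨x, hx⟩ := exists_orderOf_psl (F := F) hF hr2 hrdvd
  obtain ⟨x, rfl⟩ := hπ x
  obtain ⟨k, hk1, hk2⟩ := rpart r x hx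
  obtain ⟨j, -, hjw⟩ := count r (2 * n) hrp hro _ hk1 hk2
  omega

end Cfsg.Agent.Lib.LAEven57.PushingUp
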