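import Cfsg.Agent.Lib.LAEven57.CentrallyLarge
import Cfsg.Agent.Lib.PGroups.Frattini
import Cfsg.Agent.Lib.PGroups.Omega

/-!
A minimal centrally large subgroup outside a normal subgroup with a central module yields one inside.
-/

set_option autoImplicit false

open Cfsg
open scoped Pointwise commutatorElement

namespace Cfsg.Agent.Lib.LAEven57.PushingUp

open Cfsg.Agent.Lib.LA5.Basic
open Cfsg.Agent.Lib.LAEven57.CL

variable {T : Type*} [Group T]

theorem card_sup_mul_inf {A B : Subgroup T} (h : A ≤ Subgroup.normalizer (B : Set T)) :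
    Nat.card ↥(A ⊔ B) * Nat.card ↥(A ⊓ B) = Nat.card ↥A * Nat.card ↥B := by
  have := card_mul_card_inf A B
  rwa [← Subgroup.coe_mul_of_left_le_normalizer_right A B h] at this

theorem commute_normalizes {A B : Subgroup T} (h : A ≤ cz B) : A ≤ Subgroup.normalizer (B : Set T) :=
  h.trans (fun _ hx => Subgroup.mem_normalizer_iff.mpr fun y => by
    constructor
    · intro hy
      rw [← Subgroup.mem_centralizer_iff.mp hx y hy, mul_inv_cancel_right]; exact hy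
    · intro hy
      have := Subgroup.mem_centralizer_iff.mp hx _ hy
      simp only [mul_assoc, inv_mul_cancel, mul_one] at this
      rw [mul_assoc, ← mul_left_cancel this] at hy
      exact hy)

theorem mem_omegaOneCenter {p : ℕ} {X : Subgroup T} (hX : cz X ≤ X) {x : T} :
    x ∈ omegaOneCenter p X ↔ x ∈ cz X ∧ x ^ p = 1 := by
  rw [omegaOneCenter, Cfsg.Agent.Lib.PGroups.mem_omegaOne_iff_of_comm]
  · rw [inf_eq_right.mpr hX]
  · rw [inf_eq_right.mpr hX]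
    exact isMulCommutative_iff_le_cz.mpr (cz_anti hX)

theorem offender_step [Finite T] {p : ℕ} {P V : Subgroup T} [P.Normal] (hV : IsElementaryAbelian p V)
    (hVP : V ≤ P) (hVc : V ≤ cz P)
    (hbound : ∀ B : Subgroup T, P ≤ B →
      Nat.card ↥B * Nat.card ↥(V ⊓ cz B) ≤ Nat.card ↥P * Nat.card ↥V)
    {Q : Subgroup T} (hQ : IsMinimalCentrallyLarge Q) :
    IsMinimalCentrallyLarge ((Q ⊓ P) ⊔ V) ∧ (Q ⊓ P) ⊔ cz Q = Q ∧
      Nat.card ↥(omegaOneCenter p Q) ≤ Nat.card ↥(omegaOneCenter p ((Q ⊓ P) ⊔ V)) ∧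
      (Nat.card ↥(omegaOneCenter p ((Q ⊓ P) ⊔ V)) ≤ Nat.card ↥(omegaOneCenter p Q) →
        (Q ⊓ P) ⊔ omegaOneCenter p Q = Q) := by
  obtain ⟨hQL, hQC⟩ := centrallyLarge_iff.mp hQ.1
  set Q₀ := Q ⊓ P with hQ₀
  set Z₀ := cz Q ⊓ P with hZ₀
  set R := Q₀ ⊔ V with hRdef
  have hPV : P ≤ cz V := Subgroup.le_centralizer_iff.mp hVc
  have hR : Nat.card ↥R * Nat.card ↥(Q ⊓ V) = Nat.card ↥Q₀ * Nat.card ↥V := by
    have h := card_sup_mul_inf (commute_normalizes ((inf_le_right : Q₀ ≤ P).trans hPV))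
    rwa [show Q₀ ⊓ V = Q ⊓ V by rw [hQ₀, inf_assoc, inf_eq_right.mpr hVP]] at h
  have hZV : Nat.card ↥(Z₀ ⊔ V) * Nat.card ↥(cz Q ⊓ V) = Nat.card ↥Z₀ * Nat.card ↥V := by
    have h := card_sup_mul_inf (commute_normalizes ((inf_le_right : Z₀ ≤ P).trans hPV))
    rwa [show Z₀ ⊓ V = cz Q ⊓ V by rw [hZ₀, inf_assoc, inf_eq_right.mpr hVP]] at h
  have hle : Z₀ ⊔ V ≤ cz R := by
    rw [hRdef, cz, centralizer_sup]
    exact sup_le (le_inf (inf_le_left.trans (cz_anti inf_le_left)) (inf_le_right.trans hPV))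
      (le_inf (hVc.trans (cz_anti inf_le_right)) (hVP.trans hPV))
  have hZR : Z₀ ⊔ V ≤ R := sup_le_sup_right (inf_le_inf_right P hQC) V
  have i1 : Nat.card ↥(cz Q) * Nat.card ↥(Q ⊓ V) ≤ Nat.card ↥Z₀ * Nat.card ↥V := by
    have h1 := card_sup_mul_inf (A := cz Q) (B := P) (fun x _ => by
      rw [Subgroup.normalizer_eq_top_iff.mpr (inferInstance : P.Normal)]; exact Subgroup.mem_top x)
    have h2 : Q ⊓ V ≤ V ⊓ cz (cz Q ⊔ P) := by
      rw [cz, centralizer_sup]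
      exact le_inf inf_le_right (le_inf (inf_le_left.trans (le_cz_cz Q)) (inf_le_right.trans hVc))
    have h3 := (Nat.mul_le_mul_left (Nat.card ↥(cz Q ⊔ P)) (Subgroup.card_le_of_le h2)).trans
      (hbound _ le_sup_right)
    refine Nat.le_of_mul_le_mul_right (c := Nat.card ↥P) ?_ Nat.card_pos
    calc Nat.card ↥(cz Q) * Nat.card ↥(Q ⊓ V) * Nat.card ↥P
        = Nat.card ↥(cz Q) * Nat.card ↥P * Nat.card ↥(Q ⊓ V) := Nat.mul_right_comm _ _ _
      _ = Nat.card ↥(cz Q ⊔ P) * Nat.card ↥Z₀ * Nat.card ↥(Q ⊓ V) := by rw [← h1]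
      _ = Nat.card ↥(cz Q ⊔ P) * Nat.card ↥(Q ⊓ V) * Nat.card ↥Z₀ := Nat.mul_right_comm _ _ _
      _ ≤ Nat.card ↥P * Nat.card ↥V * Nat.card ↥Z₀ := Nat.mul_le_mul_right _ h3
      _ = _ := by ring
  have i2 : Nat.card ↥Q * Nat.card ↥(cz Q ⊓ V) ≤ Nat.card ↥Q₀ * Nat.card ↥V := by
    have h1 := card_sup_mul_inf (A := Q) (B := P) (fun x _ => by
      rw [Subgroup.normalizer_eq_top_iff.mpr (inferInstance : P.Normal)]; exact Subgroup.mem_top x)
    have h2 : cz Q ⊓ V ≤ V ⊓ cz (Q ⊔ P) := by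
      simp only [cz, centralizer_sup]
      exact le_inf inf_le_right (le_inf inf_le_left (inf_le_right.trans hVc))
    have h3 := (Nat.mul_le_mul_left (Nat.card ↥(Q ⊔ P)) (Subgroup.card_le_of_le h2)).trans
      (hbound _ le_sup_right)
    refine Nat.le_of_mul_le_mul_right (c := Nat.card ↥P) ?_ Nat.card_pos
    calc Nat.card ↥Q * Nat.card ↥(cz Q ⊓ V) * Nat.card ↥P
        = Nat.card ↥Q * Nat.card ↥P * Nat.card ↥(cz Q ⊓ V) := Nat.mul_right_comm _ _ _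
      _ = Nat.card ↥(Q ⊔ P) * Nat.card ↥Q₀ * Nat.card ↥(cz Q ⊓ V) := by rw [← h1]
      _ = Nat.card ↥(Q ⊔ P) * Nat.card ↥(cz Q ⊓ V) * Nat.card ↥Q₀ := Nat.mul_right_comm _ _ _
      _ ≤ Nat.card ↥P * Nat.card ↥V * Nat.card ↥Q₀ := Nat.mul_le_mul_right _ h3
      _ = _ := by ring
  have hf : Nat.card ↥Q * Nat.card ↥(cz Q) = maxCentralizerProduct T := hQL
  set q := Nat.card ↥Q
  set z := Nat.card ↥(cz Q)
  set q₀ := Nat.card ↥Q₀
  set z₀ := Nat.card ↥Z₀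
  set v := Nat.card ↥V
  set i := Nat.card ↥(Q ⊓ V)
  set j := Nat.card ↥(cz Q ⊓ V)
  set r := Nat.card ↥R
  set s := Nat.card ↥(Z₀ ⊔ V)
  have hi : 0 < i := Nat.card_pos
  have hj : 0 < j := Nat.card_pos
  have hub : r * s ≤ maxCentralizerProduct T :=
    (Nat.mul_le_mul_left _ (Subgroup.card_le_of_le hle)).trans (mC_le R)
  have hprod : (q * z) * (i * j) ≤ (r * s) * (i * j) := by
    calc (q * z) * (i * j) = (z * i) * (q * j) := by ring
      _ ≤ (z₀ * v) * (q₀ * v) := Nat.mul_le_mul i1 i2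
      _ = (r * i) * (s * j) := by rw [hR, hZV]; ring
      _ = _ := by ring
  have hrs : r * s = q * z := le_antisymm (hf.symm ▸ hub) (Nat.le_of_mul_le_mul_right hprod (Nat.mul_pos hi hj))
  have hzi : 0 < z * i := Nat.mul_pos Nat.card_pos hi
  have hqj : 0 < q * j := Nat.mul_pos Nat.card_pos hj
  have hpeq : (z * i) * (q * j) = (z₀ * v) * (q₀ * v) := by
    calc (z * i) * (q * j) = (q * z) * (i * j) := by ring
      _ = (r * s) * (i * j) := by rw [hrs]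
      _ = (r * i) * (s * j) := by ring
      _ = _ := by rw [hR, hZV]; ring
  have e2 : q * j = q₀ * v := le_antisymm i2 (Nat.le_of_mul_le_mul_left
    ((Nat.mul_le_mul_right _ i1).trans hpeq.ge) hzi)
  have e1 : z * i = z₀ * v := Nat.eq_of_mul_eq_mul_right hqj (hpeq.trans (by rw [e2]))
  have hczR : cz R = Z₀ ⊔ V := by
    refine (Subgroup.eq_of_le_of_card_ge hle ?_).symm
    refine Nat.le_of_mul_le_mul_left (c := r) ?_ Nat.card_pos
    exact ((mC_le R).trans_eq (hf.symm.trans hrs.symm))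
  have hRCL : IsCentrallyLarge R := centrallyLarge_iff.mpr
    ⟨eq_of_le_mC (by rw [← hf, ← hrs, mC, hczR]), hczR ▸ hZR⟩
  have hcap : Q₀ ⊓ cz Q = Z₀ := by
    rw [hQ₀, hZ₀, inf_right_comm, inf_eq_right.mpr hQC]
  have hsup := card_sup_mul_inf (A := Q₀) (B := cz Q)
    ((inf_le_left : Q₀ ≤ Q).trans (commute_normalizes (le_cz_cz Q)))
  rw [hcap] at hsup
  change Nat.card ↥(Q₀ ⊔ cz Q) * z₀ = q₀ * z at hsup
  have hrq : r * z₀ = q₀ * z := by
    refine Nat.eq_of_mul_eq_mul_right hi ?_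
    calc r * z₀ * i = (r * i) * z₀ := by ring
      _ = q₀ * (z₀ * v) := by rw [hR]; ring
      _ = _ := by rw [← e1]; ring
  have hXQ : Nat.card ↥(Q₀ ⊔ cz Q) ≤ q := Subgroup.card_le_of_le (sup_le inf_le_left hQC)
  obtain ⟨R₁, hR₁, hR₁le⟩ := exists_minimal_le hRCL
  have hR₁q : Nat.card ↥R₁ = q := (minimal_card_eq hR₁ hQ).1
  have hr : r = Nat.card ↥(Q₀ ⊔ cz Q) :=
    Nat.eq_of_mul_eq_mul_right (Nat.card_pos (α := ↥Z₀)) (hrq.trans hsup.symm)
  have hrq' : r = q := le_antisymm (hr ▸ hXQ) (hR₁q ▸ Subgroup.card_le_of_le hR₁le)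
  have hRR : R₁ = R := Subgroup.eq_of_le_of_card_ge hR₁le (le_of_eq (hrq'.trans hR₁q.symm))
  have hQeq : Q₀ ⊔ cz Q = Q :=
    Subgroup.eq_of_le_of_card_ge (sup_le inf_le_left hQC) (le_of_eq (hrq'.symm.trans hr))
  -- the elements of order `p` in the centres
  set Ω := omegaOneCenter p Q with hΩ
  set Ω' := omegaOneCenter p R with hΩ'
  have hΩle : Ω ≤ cz Q := fun x hx => ((mem_omegaOneCenter hQC).mp hx).1
  have hRC : cz R ≤ R := hczR ▸ hZR
  have hΩ₁ : (Ω ⊓ P) ⊔ V ≤ Ω' := by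
    refine sup_le (fun x hx => ?_) (fun x hx => ?_)
    · exact (mem_omegaOneCenter hRC).mpr ⟨hczR ▸ Subgroup.mem_sup_left ⟨hΩle hx.1, hx.2⟩,
        ((mem_omegaOneCenter hQC).mp hx.1).2⟩
    · exact (mem_omegaOneCenter hRC).mpr ⟨hczR ▸ Subgroup.mem_sup_right hx,
        Cfsg.Agent.Lib.PGroups.elemAb_pow hV hx⟩
  have hcapV : (Ω ⊓ P) ⊓ V = cz Q ⊓ V := by
    refine le_antisymm (inf_le_inf_right V (inf_le_left.trans hΩle)) (fun x hx => ⟨⟨?_, hVP hx.2⟩, hx.2⟩)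
    exact (mem_omegaOneCenter hQC).mpr ⟨hx.1, Cfsg.Agent.Lib.PGroups.elemAb_pow hV hx.2⟩
  have hbig : Nat.card ↥(Ω ⊓ P) * v ≤ Nat.card ↥Ω' * j := by
    have h := card_sup_mul_inf (commute_normalizes ((inf_le_right : Ω ⊓ P ≤ P).trans hPV))
    rw [hcapV] at h
    exact h.ge.trans (Nat.mul_le_mul_right _ (Subgroup.card_le_of_le hΩ₁))
  have hcapΩ : Ω ⊓ Z₀ = Ω ⊓ P := by rw [hZ₀, ← inf_assoc, inf_eq_left.mpr hΩle]
  have hsmall := card_sup_mul_inf (A := Ω) (B := Z₀)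
    (commute_normalizes ((hΩle.trans hQC).trans ((le_cz_cz Q).trans (cz_anti inf_le_left))))
  rw [hcapΩ] at hsmall
  have hsupz : Ω ⊔ Z₀ ≤ cz Q := sup_le hΩle inf_le_left
  have hij : i = j := by
    refine Nat.eq_of_mul_eq_mul_left (n := q * z₀) (Nat.mul_pos Nat.card_pos Nat.card_pos) ?_
    have hq' : q * z₀ = q₀ * z := by rw [← hrq', hrq]
    calc q * z₀ * i = q₀ * (z * i) := by rw [hq']; ring
      _ = z₀ * (q₀ * v) := by rw [e1]; ring
      _ = _ := by rw [← e2]; ring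
  rw [hij] at e1
  have hz₀ : 0 < z₀ := Nat.card_pos
  refine ⟨hRR ▸ hR₁, hQeq, ?_, fun hle' => ?_⟩
  · refine Nat.le_of_mul_le_mul_right (c := z₀ * j) ?_ (Nat.mul_pos hz₀ hj)
    calc Nat.card ↥Ω * (z₀ * j) = Nat.card ↥(Ω ⊔ Z₀) * Nat.card ↥(Ω ⊓ P) * j := by rw [hsmall]; ring
      _ ≤ z * Nat.card ↥(Ω ⊓ P) * j :=
        Nat.mul_le_mul_right _ (Nat.mul_le_mul_right _ (Subgroup.card_le_of_le hsupz))
      _ = Nat.card ↥(Ω ⊓ P) * (z * j) := by ring
      _ = z₀ * (Nat.card ↥(Ω ⊓ P) * v) := by rw [e1]; ring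
      _ ≤ z₀ * (Nat.card ↥Ω' * j) := Nat.mul_le_mul_left _ hbig
      _ = _ := by ring
  · have hge : z ≤ Nat.card ↥(Ω ⊔ Z₀) := by
      refine Nat.le_of_mul_le_mul_right (c := Nat.card ↥(Ω ⊓ P) * j) ?_ (Nat.mul_pos Nat.card_pos hj)
      calc z * (Nat.card ↥(Ω ⊓ P) * j) = z₀ * (Nat.card ↥(Ω ⊓ P) * v) := by
            rw [show z * (Nat.card ↥(Ω ⊓ P) * j) = Nat.card ↥(Ω ⊓ P) * (z * j) by ring, e1]; ring
        _ ≤ z₀ * (Nat.card ↥Ω * j) :=
          Nat.mul_le_mul_left _ (hbig.trans (Nat.mul_le_mul_right _ hle'))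
        _ = (Nat.card ↥Ω * z₀) * j := by ring
        _ = _ := by rw [← hsmall]; ring
    have hΩZ : Ω ⊔ Z₀ = cz Q := Subgroup.eq_of_le_of_card_ge hsupz hge
    refine le_antisymm (sup_le inf_le_left (hΩle.trans hQC)) ?_
    conv_lhs => rw [← hQeq, ← hΩZ]
    exact sup_le le_sup_left (sup_le le_sup_right ((inf_le_inf_right P hQC).trans le_sup_left))

theorem frattini_map_eq [Finite T] {p : ℕ} [Fact p.Prime] (hT : IsPGroup p T) {X Y E : Subgroup T}
    (hsup : Y ⊔ E = X) (hE : E ≤ cz X) (hpow : ∀ e ∈ E, e ^ p = 1) :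
    (frattini ↥X).map X.subtype = (frattini ↥Y).map Y.subtype := by
  have hYX : Y ≤ X := hsup ▸ le_sup_left
  have hform : ∀ H : Subgroup T, (frattini ↥H).map H.subtype =
      ⁅H, H⁆ ⊔ Subgroup.closure ((fun x : T => x ^ p) '' (H : Set T)) := by
    intro H
    rw [Cfsg.Agent.Lib.PGroups.frattini_eq_sup (hT.to_subgroup H), Subgroup.map_sup, MonoidHom.map_closure,
      commutator_def, Subgroup.map_commutator, ← MonoidHom.range_eq_map, Subgroup.range_subtype]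
    congr 2
    ext y
    constructor
    · rintro ⟨_, ⟨x, rfl⟩, rfl⟩; exact ⟨x, x.2, by simp⟩
    · rintro ⟨x, hx, rfl⟩; exact ⟨_, ⟨⟨x, hx⟩, rfl⟩, by simp⟩
  have hdec : ∀ x ∈ X, ∃ y ∈ Y, ∃ e ∈ E, x = y * e := by
    intro x hx
    have h : x ∈ ((Y ⊔ E : Subgroup T) : Set T) := by rw [hsup]; exact hx
    have hn : Y ≤ Subgroup.normalizer (E : Set T) :=
      commute_normalizes (hYX.trans (Subgroup.le_centralizer_iff.mp hE))
    rw [Subgroup.coe_mul_of_left_le_normalizer_right Y E hn] at h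
    obtain ⟨y, hy, e, he, rfl⟩ := h
    exact ⟨y, hy, e, he, rfl⟩
  have hcm : ∀ e ∈ E, ∀ x ∈ X, Commute e x := fun e he x hx =>
    (Subgroup.mem_centralizer_iff.mp (hE he) x hx).symm
  rw [hform, hform]
  refine le_antisymm (sup_le ?_ ?_) (sup_le_sup (Subgroup.commutator_mono hYX hYX)
    (Subgroup.closure_mono (Set.image_mono hYX)))
  · refine le_trans (Subgroup.commutator_le.mpr fun a ha b hb => ?_) le_sup_left
    obtain ⟨y, hy, e, he, rfl⟩ := hdec a ha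
    obtain ⟨y', hy', e', he', rfl⟩ := hdec b hb
    have h1 := (hcm e he (y' * e') hb).eq
    have h2 := (hcm e' he' y⁻¹ (X.inv_mem (hYX hy))).eq
    have e0 : ⁅y * e, y' * e'⁆ = ⁅y, y'⁆ := by
      rw [commutatorElement_def, commutatorElement_def]
      calc y * e * (y' * e') * (y * e)⁻¹ * (y' * e')⁻¹
          = y * (e * (y' * e')) * e⁻¹ * y⁻¹ * e'⁻¹ * y'⁻¹ := by group
        _ = y * y' * (e' * y⁻¹) * e'⁻¹ * y'⁻¹ := by rw [h1]; group
        _ = y * y' * y⁻¹ * y'⁻¹ := by rw [h2]; group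
    rw [e0]; exact Subgroup.commutator_mem_commutator hy hy'
  · refine le_trans ((Subgroup.closure_le _).mpr ?_) le_sup_right
    rintro _ ⟨x, hx, rfl⟩
    obtain ⟨y, hy, e, he, rfl⟩ := hdec x hx
    refine Subgroup.subset_closure ⟨y, hy, ?_⟩
    show y ^ p = (y * e) ^ p
    rw [((hcm e he y (hYX hy)).symm).mul_pow, hpow e he, mul_one]

end Cfsg.Agent.Lib.LAEven57.PushingUp
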