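import Cfsg.Agent.Lib.LAEven57.PushingUp.Setup
import Cfsg.Agent.Lib.LAEven57.PushingUp.Offender

/-!
Pushing up: minimal centrally large subgroups.
-/

set_option autoImplicit false

open Cfsg
open scoped Pointwise commutatorElement

namespace Cfsg.Agent.Lib.LAEven57.PushingUp

open Cfsg.Agent.Lib.LA5.Basic
open Cfsg.Agent.Lib.LAEven57.CL

variable {G : Type*} [Group G] [Finite G] {p : ℕ} [hp : Fact p.Prime] {S : Subgroup G}

theorem bound {M : Subgroup G} {F : Type} [Field F] [Fintype F] {n : ℕ} {π : G →* PSL2 F}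
    (hS : ∃ P : Sylow p G, (P : Subgroup G) = S) (h : IsData p S M F n π) (V : Subgroup G) [hVn : V.Normal]
    (hV : IsElementaryAbelian p V) (hVP : pCore p G ≤ Subgroup.centralizer (V : Set G))
    (hC : Subgroup.centralizer (V : Set G) ≤ M) {B : Subgroup G} (hPB : pCore p G ≤ B) (hBS : B ≤ S) :
    Nat.card ↥B * Nat.card ↥(V ⊓ Subgroup.centralizer (B : Set G)) ≤ Nat.card ↥(pCore p G) * Nat.card ↥V := by
  have hS0 := card_S_mul_fix_le hS h V hV hVP hC
  let μ : Subgroup G → ℕ := fun X => Nat.card ↥X * Nat.card ↥(V ⊓ Subgroup.centralizer (X : Set G))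
  have hsuper : ∀ X Y, μ X * μ Y ≤ μ (X ⊔ Y) * μ (X ⊓ Y) := fun X Y => by
    calc μ X * μ Y = (Nat.card ↥X * Nat.card ↥Y) *
          (Nat.card ↥(V ⊓ Subgroup.centralizer (X : Set G)) * Nat.card ↥(V ⊓ Subgroup.centralizer (Y : Set G))) := by
          ring
      _ ≤ _ := Nat.mul_le_mul (card_mul_le_card_sup_mul_card_inf X Y) (card_inf_centralizer_supermodular V X Y)
      _ = _ := by ring
  let 𝔅 : Set (Subgroup G) := {X | pCore p G ≤ X ∧ X ≤ S}
  obtain ⟨B₀, hB₀, hmax⟩ := Set.exists_max_image 𝔅 μ (Set.toFinite _) ⟨B, hPB, hBS⟩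
  refine (hmax B ⟨hPB, hBS⟩).trans ?_
  obtain ⟨B₁, ⟨hB₁, hB₁m⟩, hbig⟩ := (wellFounded_gt (α := Subgroup G)).has_min
    {X | X ∈ 𝔅 ∧ μ X = μ B₀} ⟨B₀, hB₀, rfl⟩
  have habsorb : ∀ X ∈ 𝔅, μ X = μ B₀ → X ≤ B₁ := by
    intro X hX hXm
    have h1 : X ⊔ B₁ ∈ 𝔅 := ⟨hX.1.trans le_sup_left, sup_le hX.2 hB₁.2⟩
    have h2 : μ (X ⊓ B₁) ≤ μ B₀ := hmax _ ⟨le_inf hX.1 hB₁.1, inf_le_left.trans hX.2⟩
    have h3 := hsuper X B₁
    rw [hXm, hB₁m] at h3
    have hpos : 0 < μ B₀ := Nat.mul_pos Nat.card_pos Nat.card_pos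
    have h4 : μ (X ⊔ B₁) = μ B₀ := le_antisymm (hmax _ h1)
      (Nat.le_of_mul_le_mul_right (h3.trans (Nat.mul_le_mul_left _ h2)) hpos)
    by_contra hne
    exact hbig _ ⟨h1, h4⟩ (lt_of_le_of_ne le_sup_right fun e => hne (e ▸ le_sup_left))
  have hinv : ∀ g ∈ Subgroup.normalizer (S : Set G), ∀ x ∈ B₁, g * x * g⁻¹ ∈ B₁ := by
    intro g hg x hx
    refine habsorb (B₁.map (MulAut.conj g).toMonoidHom) ⟨?_, ?_⟩ ?_ ⟨x, hx, rfl⟩
    · refine le_trans (le_of_eq ?_) (Subgroup.map_mono hB₁.1)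
      exact (mem_normalizer_iff_conj_eq.mp (by rw [Subgroup.normalizer_eq_top_iff.mpr inferInstance]; exact Subgroup.mem_top g)).symm
    · exact (Subgroup.map_mono hB₁.2).trans (mem_normalizer_iff_conj_eq.mp hg).le
    · rw [← hB₁m]
      show _ * _ = _ * _
      rw [card_conj, centralizer_conj]
      congr 1
      refine Eq.trans ?_ (card_conj g (V ⊓ Subgroup.centralizer (B₁ : Set G)))
      rw [Subgroup.map_inf _ _ _ (MulAut.conj g).injective]
      rw [show V.map (MulAut.conj g).toMonoidHom = V from mem_normalizer_iff_conj_eq.mp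
        (by rw [Subgroup.normalizer_eq_top_iff.mpr hVn]; exact Subgroup.mem_top g)]
  show μ B₀ ≤ _
  rw [← hB₁m]
  rcases irreducible hS h hB₁.1 hB₁.2 hinv with e | e
  · rw [e]; exact Nat.mul_le_mul_left _ (Subgroup.card_le_of_le inf_le_left)
  · rw [e]; exact hS0

theorem normal_of_conj_le {H : Subgroup G} (h : ∀ g : G, H.map (MulAut.conj g).toMonoidHom ≤ H) : H.Normal :=
  ⟨fun x hx g => h g ⟨x, hx, rfl⟩⟩

theorem normal_of_central {H : Subgroup G} (h : H ≤ Subgroup.center G) : H.Normal :=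
  ⟨fun x hx g => by rw [Subgroup.mem_center_iff.mp (h hx) g, mul_inv_cancel_right]; exact hx⟩

/-- The centre of `S` is central, or the key bound holds. -/
theorem center_or_bound (hE : IsPushingUpSituation p S) :
    S ⊓ Subgroup.centralizer (S : Set G) ≤ Subgroup.center G ∨
      ∃ V : Subgroup G, V.Normal ∧ IsElementaryAbelian p V ∧ V ≤ pCore p G ∧
        pCore p G ≤ Subgroup.centralizer (V : Set G) ∧
        ∀ B : Subgroup G, pCore p G ≤ B → B ≤ S →
          Nat.card ↥B * Nat.card ↥(V ⊓ Subgroup.centralizer (B : Set G)) ≤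
            Nat.card ↥(pCore p G) * Nat.card ↥V := by
  obtain ⟨M, F, _, _, n, π, h⟩ := exists_data hE
  obtain ⟨-, hS, hchar, -⟩ := hE
  obtain ⟨P, hPS⟩ := id hS
  have hPle : pCore p G ≤ S := hPS ▸ Cfsg.Agent.Lib.Cores.pCore_le_sylow P
  set W := pCore p G ⊓ Subgroup.centralizer (pCore p G : Set G) with hW
  have hWc : IsMulCommutative ↥W :=
    isMulCommutative_iff_le_cz.mpr (inf_le_right.trans (cz_anti inf_le_left))
  have hZW : S ⊓ Subgroup.centralizer (S : Set G) ≤ W := by
    intro x hx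
    have h1 : x ∈ Subgroup.centralizer (pCore p G : Set G) := cz_anti hPle hx.2
    exact ⟨hchar h1, h1⟩
  set V := omegaOne p W with hV
  have hVn : V.Normal := Cfsg.Agent.Lib.PGroups.omegaOne_normal
  have hVel : IsElementaryAbelian p V := Cfsg.Agent.Lib.PGroups.elemAb_omegaOne hWc
  have hVP : V ≤ W := Cfsg.Agent.Lib.PGroups.omegaOne_le p W
  by_cases hC : Subgroup.centralizer (V : Set G) ≤ M
  · exact Or.inr ⟨V, hVn, hVel, hVP.trans inf_le_left,
      Subgroup.le_centralizer_iff.mp (hVP.trans inf_le_right), fun B h1 h2 =>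
      bound hS h V hVel (Subgroup.le_centralizer_iff.mp (hVP.trans inf_le_right)) hC h1 h2⟩
  left
  have hWp : IsPGroup p ↥W := (Cfsg.Agent.Lib.Cores.pCore_isPGroup p).to_le inf_le_left
  have key : ∀ (d : G), (orderOf d).Coprime p → d ∈ Subgroup.centralizer (V : Set G) →
      ∀ (k : ℕ), ∀ v ∈ W, v ^ p ^ k = 1 → Commute d v := by
    intro d hd hdV k
    induction k with
    | zero => intro v _ hv; rw [pow_zero, pow_one] at hv; rw [hv]; exact Commute.one_right d
    | succ k ih =>
      intro v hv hk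
      have hvp : Commute d (v ^ p) := ih _ (W.pow_mem hv p) (by rw [← pow_mul, ← pow_succ']; exact hk)
      have hdv : d * v * d⁻¹ ∈ W := (inferInstance : W.Normal).conj_mem v hv d
      have hcmem : d * v * d⁻¹ * v⁻¹ ∈ W := W.mul_mem hdv (W.inv_mem hv)
      refine commute_of_stabilizes hWp hd hcmem ?_
      refine (Subgroup.mem_centralizer_iff.mp hdV _ ?_).symm
      refine Cfsg.Agent.Lib.PGroups.mem_omegaOne_of_pow hcmem ?_
      have hcomm : Commute (d * v * d⁻¹) v⁻¹ := comm_of_isMulCommutative hWc hdv (W.inv_mem hv)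
      rw [hcomm.mul_pow, conj_pow, hvp.eq, mul_inv_cancel_right, inv_pow, mul_inv_cancel]
  intro x hx
  have hxW := hZW hx
  haveI : (Subgroup.centralizer (V : Set G)).Normal := inferInstance
  haveI : (Subgroup.centralizer (W : Set G)).Normal := inferInstance
  have hCW : ¬ Subgroup.centralizer (W : Set G) ≤ M := fun hle => hC <|
    (normal_le_of_pprime hS (Subgroup.centralizer (V : Set G)) (Subgroup.centralizer (W : Set G))
      fun d hd hcop => Subgroup.mem_centralizer_iff.mpr fun v hv => by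
        obtain ⟨k, hk⟩ := hWp ⟨v, hv⟩
        exact (key d hcop hd k v hv (congrArg Subtype.val hk)).eq.symm).trans (sup_le hle h.2.1)
  have htop : Subgroup.centralizer (W : Set G) ⊔ S = ⊤ := by
    by_contra hne
    exact hCW (le_sup_left.trans (coatom_eq h.2.2.1 le_sup_right hne))
  rw [← Subgroup.centralizer_univ, ← Subgroup.coe_top, ← htop, centralizer_sup]
  exact ⟨le_cz_cz W hxW, hx.2⟩

/-- Transport along conjugation by an element of `G`. -/
def transport (g : G) (R : Subgroup ↥S) : Subgroup ↥S :=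
  ((R.map S.subtype).map (MulAut.conj g).toMonoidHom).subgroupOf S

theorem map_transport {g : G} {R : Subgroup ↥S} (hR : R.map S.subtype ≤ pCore p G) (hPS : pCore p G ≤ S) :
    (transport g R).map S.subtype = (R.map S.subtype).map (MulAut.conj g).toMonoidHom ∧
      (transport g R).map S.subtype ≤ pCore p G := by
  have hle : (R.map S.subtype).map (MulAut.conj g).toMonoidHom ≤ pCore p G :=
    (Subgroup.map_mono hR).trans (mem_normalizer_iff_conj_eq.mp
      (by rw [Subgroup.normalizer_eq_top_iff.mpr inferInstance]; exact Subgroup.mem_top g)).le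
  have e : (transport g R).map S.subtype = (R.map S.subtype).map (MulAut.conj g).toMonoidHom := by
    rw [transport, Subgroup.subgroupOf_map_subtype, inf_eq_left.mpr (hle.trans hPS)]
  exact ⟨e, e ▸ hle⟩

theorem transport_inv {g : G} {R : Subgroup ↥S} (hR : R.map S.subtype ≤ pCore p G) (hPS : pCore p G ≤ S) :
    transport g⁻¹ (transport g R) = R := by
  apply Subgroup.map_injective S.subtype_injective
  rw [(map_transport (map_transport hR hPS).2 hPS).1, (map_transport hR hPS).1, map_conj_mul, inv_mul_cancel,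
    map_conj_one]

/-- The isomorphism between the images. -/
noncomputable def transportEquiv {g : G} {R R' : Subgroup ↥S}
    (h : R'.map S.subtype = (R.map S.subtype).map (MulAut.conj g).toMonoidHom) : ↥R ≃* ↥R' :=
  (R.equivMapOfInjective S.subtype S.subtype_injective).trans
    (((R.map S.subtype).equivMapOfInjective (MulAut.conj g).toMonoidHom (MulAut.conj g).injective).trans
      ((MulEquiv.subgroupCongr h.symm).trans (R'.equivMapOfInjective S.subtype S.subtype_injective).symm))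

theorem transportEquiv_apply {g : G} {R R' : Subgroup ↥S}
    (h : R'.map S.subtype = (R.map S.subtype).map (MulAut.conj g).toMonoidHom) (x : ↥R) :
    (((transportEquiv h x : ↥R') : ↥S) : G) = g * ((x : ↥S) : G) * g⁻¹ := by
  have key : ∀ y : ↥(R'.map S.subtype),
      ((((R'.equivMapOfInjective S.subtype S.subtype_injective).symm y : ↥R') : ↥S) : G) = y := by
    intro y
    obtain ⟨z, rfl⟩ := (R'.equivMapOfInjective S.subtype S.subtype_injective).surjective y
    rw [MulEquiv.symm_apply_apply]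
    rfl
  unfold transportEquiv
  simp only [MulEquiv.trans_apply]
  rw [key]
  rfl

theorem transport_cl {g : G} {R : Subgroup ↥S} (hR : R.map S.subtype ≤ pCore p G) (hPS : pCore p G ≤ S)
    (h : IsCentrallyLarge R) : IsCentrallyLarge (transport g R) := by
  have e := transportEquiv (map_transport (g := g) hR hPS).1
  show Nat.card ↥(transport g R) * Nat.card ↥(Subgroup.center ↥(transport g R)) = _
  rw [← Nat.card_congr e.toEquiv, ← Nat.card_congr (Subgroup.centerCongr e).toEquiv]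
  exact h

theorem transport_minimal {g : G} {R : Subgroup ↥S} (hR : R.map S.subtype ≤ pCore p G) (hPS : pCore p G ≤ S)
    (h : IsMinimalCentrallyLarge R) : IsMinimalCentrallyLarge (transport g R) := by
  refine ⟨transport_cl hR hPS h.1, fun R' hle hR' => ?_⟩
  have hR'P : R'.map S.subtype ≤ pCore p G := (Subgroup.map_mono hle).trans (map_transport hR hPS).2
  have h1 : transport g⁻¹ R' ≤ R := by
    rw [← Subgroup.map_le_map_iff_of_injective S.subtype_injective, (map_transport hR'P hPS).1,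
      ← transport_inv (g := g) hR hPS, (map_transport (map_transport hR hPS).2 hPS).1]
    exact Subgroup.map_mono (Subgroup.map_mono hle)
  have h2 := h.2 _ h1 (transport_cl hR'P hPS hR')
  rw [← h2]
  have := transport_inv (g := g⁻¹) hR'P hPS
  rwa [inv_inv, eq_comm] at this

theorem card_omega_congr {T : Type*} [Group T] {A B : Subgroup T} (e : ↥A ≃* ↥B) :
    Nat.card ↥(omegaOneCenter p A) = Nat.card ↥(omegaOneCenter p B) := by
  have key : ∀ X : Subgroup T, omegaOneCenter p X = (omegaOne p (Subgroup.center ↥X)).map X.subtype := by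
    intro X
    rw [Cfsg.Agent.Lib.PGroups.map_omegaOne_of_injective _ X.subtype_injective, omegaOneCenter]
    congr 1
    ext x
    constructor
    · rintro ⟨h1, h2⟩
      exact ⟨⟨x, h1⟩, Subgroup.mem_center_iff.mpr fun z =>
        Subtype.ext (Subgroup.mem_centralizer_iff.mp h2 z z.2), rfl⟩
    · rintro ⟨y, hy, rfl⟩
      exact ⟨y.2, Subgroup.mem_centralizer_iff.mpr fun z hz =>
        congrArg Subtype.val (Subgroup.mem_center_iff.mp hy ⟨z, hz⟩)⟩
  rw [key, key, Subgroup.card_map_of_injective A.subtype_injective, Subgroup.card_map_of_injective B.subtype_injective,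
    ← Subgroup.card_map_of_injective (f := e.toMonoidHom) e.injective,
    Cfsg.Agent.Lib.PGroups.map_omegaOne_of_injective _ e.injective]
  refine congrArg (fun X : Subgroup ↥B => Nat.card ↥(omegaOne p X)) ?_
  ext y
  constructor
  · rintro ⟨x, hx, rfl⟩
    refine Subgroup.mem_center_iff.mpr fun z => ?_
    have h := congrArg e (Subgroup.mem_center_iff.mp hx (e.symm z))
    simpa using h
  · intro hy
    exact ⟨e.symm y, Subgroup.mem_center_iff.mpr fun z => e.injective (by
      simpa using Subgroup.mem_center_iff.mp hy (e z)), e.apply_symm_apply y⟩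

theorem commutator_characteristic {T : Type*} [Group T] [Finite T] {Q : Subgroup T}
    (hQ : IsMinimalCentrallyLarge Q) : (⁅Q, Q⁆).Characteristic := by
  have hcl : ∀ (φ : T ≃* T) (R : Subgroup T), IsCentrallyLarge R → IsCentrallyLarge (R.map φ.toMonoidHom) := by
    intro φ R hR
    have e := R.equivMapOfInjective φ.toMonoidHom φ.injective
    show Nat.card ↥(R.map φ.toMonoidHom) * Nat.card ↥(Subgroup.center ↥(R.map φ.toMonoidHom)) = _
    rw [← Nat.card_congr e.toEquiv, ← Nat.card_congr (Subgroup.centerCongr e).toEquiv]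
    exact hR
  refine Subgroup.characteristic_iff_map_eq.mpr fun φ => ?_
  rw [Subgroup.map_commutator]
  refine minimal_commutator_eq ⟨hcl φ Q hQ.1, fun R hle hR => ?_⟩ hQ
  have h1 : R.map φ.symm.toMonoidHom ≤ Q := by
    rintro _ ⟨x, hx, rfl⟩
    obtain ⟨y, hy, rfl⟩ := hle hx
    simpa using hy
  rw [← hQ.2 _ h1 (hcl φ.symm R hR), Subgroup.map_map]
  simp

/-- Minimal centrally large subgroups of `S` and `O_p(G)`, when `Z(S)` is not central. -/
theorem minimal_step (hE : IsPushingUpSituation p S)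
    (hne : ¬ S ⊓ Subgroup.centralizer (S : Set G) ≤ Subgroup.center G) {Q : Subgroup ↥S}
    (hQ : IsMinimalCentrallyLarge Q) :
    ∃ R : Subgroup ↥S, IsMinimalCentrallyLarge R ∧ R.map S.subtype ≤ pCore p G ∧
      (Q ⊓ (pCore p G).subgroupOf S) ⊔ cz Q = Q ∧
      Nat.card ↥(omegaOneCenter p Q) ≤ Nat.card ↥(omegaOneCenter p R) ∧
      (Nat.card ↥(omegaOneCenter p R) ≤ Nat.card ↥(omegaOneCenter p Q) →
        (frattini ↥Q).map Q.subtype = (frattini ↥R).map R.subtype) := by
  obtain hc | ⟨V, hVn, hV, hVP, hPV, hb⟩ := center_or_bound hE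
  · exact absurd hc hne
  obtain ⟨-, ⟨P₀, hP₀⟩, -⟩ := hE
  have hSp : IsPGroup p ↥S := hP₀ ▸ P₀.2
  have hPS : pCore p G ≤ S := hP₀ ▸ Cfsg.Agent.Lib.Cores.pCore_le_sylow P₀
  set P' := (pCore p G).subgroupOf S with hP'
  set V' := V.subgroupOf S with hV'
  haveI : P'.Normal := (inferInstance : (pCore p G).Normal).subgroupOf S
  have hV'el : IsElementaryAbelian p V' := Cfsg.Agent.Lib.PGroups.elemAb_mk
    (fun a ha b hb => Subtype.ext (Cfsg.Agent.Lib.PGroups.elemAb_comm hV ha hb))
    (fun a ha => Subtype.ext (Cfsg.Agent.Lib.PGroups.elemAb_pow hV ha))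
  have hV'c : V' ≤ cz P' := fun a ha => Subgroup.mem_centralizer_iff.mpr fun b hb =>
    Subtype.ext (Subgroup.mem_centralizer_iff.mp (hPV hb) (a : G) ha).symm
  have hbound : ∀ B : Subgroup ↥S, P' ≤ B →
      Nat.card ↥B * Nat.card ↥(V' ⊓ cz B) ≤ Nat.card ↥P' * Nat.card ↥V' := by
    intro B hB
    rw [← Subgroup.card_map_of_injective S.subtype_injective (K := B),
      ← Subgroup.card_map_of_injective S.subtype_injective (K := V' ⊓ cz B),
      ← Subgroup.card_map_of_injective S.subtype_injective (K := P'),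
      ← Subgroup.card_map_of_injective S.subtype_injective (K := V')]
    have e1 : P'.map S.subtype = pCore p G := by
      rw [hP', Subgroup.subgroupOf_map_subtype, inf_eq_left.mpr hPS]
    have e2 : V'.map S.subtype = V := by
      rw [hV', Subgroup.subgroupOf_map_subtype, inf_eq_left.mpr (hVP.trans hPS)]
    rw [e1, e2]
    refine le_trans (Nat.mul_le_mul_left _ (Subgroup.card_le_of_le ?_))
      (hb (B.map S.subtype) (e1 ▸ Subgroup.map_mono hB) (Subgroup.map_subtype_le B))
    rintro _ ⟨x, hx, rfl⟩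
    refine ⟨hx.1, Subgroup.mem_centralizer_iff.mpr ?_⟩
    rintro _ ⟨y, hy, rfl⟩
    exact congrArg Subtype.val (Subgroup.mem_centralizer_iff.mp hx.2 y hy)
  obtain ⟨hR, hQeq, hle, heq⟩ := offender_step hV'el (fun a ha => hVP ha) hV'c hbound hQ
  refine ⟨(Q ⊓ P') ⊔ V', hR, ?_, hQeq, hle, fun hge => ?_⟩
  · refine Subgroup.map_le_iff_le_comap.mpr (sup_le inf_le_right fun a ha => hVP ha)
  · obtain ⟨-, hQC⟩ := centrallyLarge_iff.mp hQ.1
    rw [frattini_map_eq hSp (heq hge) (fun e he => ((mem_omegaOneCenter hQC).mp he).1)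
        (fun e he => ((mem_omegaOneCenter hQC).mp he).2),
      frattini_map_eq hSp (Y := Q ⊓ P') (E := V') rfl (le_of_le_of_eq ?_ rfl)
        (fun e he => Cfsg.Agent.Lib.PGroups.elemAb_pow hV'el he)]
    rw [cz, centralizer_sup]
    exact le_inf (hV'c.trans (cz_anti inf_le_right)) (isMulCommutative_iff_le_cz.mp hV'el.1)

theorem main_commutator (hE : IsPushingUpSituation p S) {Q : Subgroup ↥S} (hQ : IsMinimalCentrallyLarge Q) :
    ((S ⊓ Subgroup.centralizer (S : Set G)) ⊓ (⁅Q, Q⁆).map S.subtype).Normal ∨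
      ((minimalCentrallyLargeJoin ↥S).map S.subtype).Normal := by
  by_cases hc : S ⊓ Subgroup.centralizer (S : Set G) ≤ Subgroup.center G
  · exact Or.inl (normal_of_central (inf_le_left.trans hc))
  obtain ⟨M, F, _, _, n, π, h⟩ := exists_data hE
  have hS := hE.2.1
  obtain ⟨P₀, hP₀⟩ := id hS
  have hPS : pCore p G ≤ S := hP₀ ▸ Cfsg.Agent.Lib.Cores.pCore_le_sylow P₀
  by_cases hall : ∀ R : Subgroup ↥S, IsMinimalCentrallyLarge R → R.map S.subtype ≤ pCore p G
  · refine Or.inr (normal_of_conj_le fun g => ?_)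
    rw [Subgroup.map_le_iff_le_comap, Subgroup.map_le_iff_le_comap]
    refine sSup_le fun R hR => ?_
    rw [← Subgroup.map_le_iff_le_comap, ← Subgroup.map_le_iff_le_comap, ← (map_transport (hall R hR) hPS).1]
    exact Subgroup.map_mono (le_sSup (transport_minimal (hall R hR) hPS hR))
  push Not at hall
  obtain ⟨Q₁, hQ₁, hQ₁P⟩ := hall
  obtain ⟨R, hR, hRP, hQeq, -, -⟩ := minimal_step hE hc hQ₁
  set K := (⁅Q₁, Q₁⁆).map S.subtype with hK
  have hKn : K.Normal := normal_of_conj_le fun g => by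
    rw [hK, minimal_commutator_eq hQ₁ hR, Subgroup.map_commutator, Subgroup.map_commutator,
      ← (map_transport hRP hPS).1, ← Subgroup.map_commutator,
      minimal_commutator_eq (transport_minimal hRP hPS hR) hR, Subgroup.map_commutator]
  obtain ⟨z, hz, hzP⟩ : ∃ z ∈ cz Q₁, (z : G) ∉ pCore p G := by
    by_contra hcon
    push Not at hcon
    refine hQ₁P (Subgroup.map_le_iff_le_comap.mpr ?_)
    rw [← hQeq]
    exact sup_le inf_le_right fun z hz => hcon z hz
  have hzK : (z : G) ∈ Subgroup.centralizer (K : Set G) := by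
    refine Subgroup.mem_centralizer_iff.mpr ?_
    rintro _ ⟨x, hx, rfl⟩
    have hxQ : x ∈ Q₁ := (Subgroup.commutator_le.mpr fun a ha b hb => by
      rw [commutatorElement_def]
      exact Q₁.mul_mem (Q₁.mul_mem (Q₁.mul_mem ha hb) (Q₁.inv_mem ha)) (Q₁.inv_mem hb)) hx
    exact congrArg Subtype.val (Subgroup.mem_centralizer_iff.mp hz x hxQ)
  haveI : (Subgroup.centralizer (K : Set G)).Normal := inferInstance
  have htop : Subgroup.centralizer (K : Set G) ⊔ S = ⊤ := by
    by_contra hne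
    have hle := le_sup_left.trans (coatom_eq h.2.2.1 le_sup_right hne)
    exact hzP (normal_inf_le_pCore hS h.1 h.2.2.1 hle ⟨hzK, z.2⟩)
  refine Or.inl (normal_of_central ?_)
  rintro x ⟨hx, hxK⟩
  rw [minimal_commutator_eq hQ hQ₁] at hxK
  rw [← Subgroup.centralizer_univ, ← Subgroup.coe_top, ← htop, centralizer_sup]
  exact ⟨le_cz_cz K hxK, hx.2⟩

theorem maxOmega_mem {T : Type*} [Group T] [Finite T] (p : ℕ) :
    ∃ Q : Subgroup T, IsMinimalCentrallyLarge Q ∧
      Nat.card ↥(omegaOneCenter p Q) = maxOmegaCenterOfMinimalCL p T := by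
  refine Nat.sSup_mem (s := {k : ℕ | ∃ Q : Subgroup T, IsMinimalCentrallyLarge Q ∧
    Nat.card ↥(omegaOneCenter p Q) = k}) ?_ ?_
  · obtain ⟨Q₀, hQ₀⟩ := exists_centrallyLarge (P := T)
    obtain ⟨R, hR, -⟩ := exists_minimal_le hQ₀
    exact ⟨_, R, hR, rfl⟩
  · refine (Set.finite_range fun Q : Subgroup T => Nat.card ↥(omegaOneCenter p Q)).bddAbove.mono ?_
    rintro k ⟨Q, -, hQ⟩; exact ⟨Q, hQ⟩

theorem le_maxOmega {T : Type*} [Group T] [Finite T] (p : ℕ) {Q : Subgroup T} (hQ : IsMinimalCentrallyLarge Q) :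
    Nat.card ↥(omegaOneCenter p Q) ≤ maxOmegaCenterOfMinimalCL p T := by
  refine le_csSup ((Set.finite_range fun Q : Subgroup T => Nat.card ↥(omegaOneCenter p Q)).bddAbove.mono ?_)
    ⟨Q, hQ, rfl⟩
  rintro k ⟨Q, -, hQ⟩; exact ⟨Q, hQ⟩

theorem main_frattini (hE : IsPushingUpSituation p S) :
    (S ⊓ Subgroup.centralizer (S : Set G)).Normal ∨ ((frattiniOfMinimalCLJoin p ↥S).map S.subtype).Normal := by
  by_cases hc : S ⊓ Subgroup.centralizer (S : Set G) ≤ Subgroup.center G
  · exact Or.inl (normal_of_central hc)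
  obtain ⟨P₀, hP₀⟩ := hE.2.1
  have hPS : pCore p G ≤ S := hP₀ ▸ Cfsg.Agent.Lib.Cores.pCore_le_sylow P₀
  refine Or.inr (normal_of_conj_le fun g => ?_)
  rw [Subgroup.map_le_iff_le_comap, Subgroup.map_le_iff_le_comap]
  refine iSup_le fun ⟨Q, hQ, hQm⟩ => ?_
  rw [← Subgroup.map_le_iff_le_comap, ← Subgroup.map_le_iff_le_comap]
  obtain ⟨R, hR, hRP, -, hle, heq⟩ := minimal_step hE hc hQ
  have hRm : Nat.card ↥(omegaOneCenter p R) = maxOmegaCenterOfMinimalCL p ↥S :=
    le_antisymm (le_maxOmega p hR) (hQm ▸ hle)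
  rw [heq (by rw [hRm, hQm])]
  have hR' := transport_minimal (g := g) hRP hPS hR
  have hR'm : Nat.card ↥(omegaOneCenter p (transport g R)) = maxOmegaCenterOfMinimalCL p ↥S := by
    rw [← hRm]; exact (card_omega_congr (transportEquiv (map_transport hRP hPS).1)).symm
  have hSp : IsPGroup p ↥S := hP₀ ▸ P₀.2
  have key : (((frattini ↥R).map R.subtype).map S.subtype).map (MulAut.conj g).toMonoidHom =
      ((frattini ↥(transport g R)).map (transport g R).subtype).map S.subtype := by
    set e := transportEquiv (map_transport (g := g) hRP hPS).1 with he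
    have hf : (frattini ↥R).map e.toMonoidHom = frattini ↥(transport g R) := by
      rw [Cfsg.Agent.Lib.PGroups.frattini_eq_sup (hSp.to_subgroup R),
        Cfsg.Agent.Lib.PGroups.frattini_eq_sup (hSp.to_subgroup _), Subgroup.map_sup, MonoidHom.map_closure,
        commutator_def, Subgroup.map_commutator, Subgroup.map_top_of_surjective _ e.surjective, ← commutator_def]
      congr 2
      ext y
      constructor
      · rintro ⟨_, ⟨x, rfl⟩, rfl⟩; exact ⟨e x, by simp⟩
      · rintro ⟨x, rfl⟩; exact ⟨_, ⟨e.symm x, rfl⟩, by simp⟩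
    rw [← hf]
    simp only [Subgroup.map_map]
    congr 1
    ext x
    exact (transportEquiv_apply (map_transport (g := g) hRP hPS).1 x).symm
  rw [key]
  exact Subgroup.map_mono (le_iSup (fun Q : {Q : Subgroup ↥S // IsMinimalCentrallyLarge Q ∧
    Nat.card ↥(omegaOneCenter p Q) = maxOmegaCenterOfMinimalCL p ↥S} => (frattini ↥(Q : Subgroup ↥S)).map (Q : Subgroup ↥S).subtype) ⟨_, hR', hR'm⟩)

theorem of_frattiniJoin_bot {T : Type*} [Group T] [Finite T] (hT : IsPGroup p T)
    (h : frattiniOfMinimalCLJoin p T = ⊥) :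
    (∀ Q : Subgroup T, IsMinimalCentrallyLarge Q ↔ Q ∈ maxAbelianSubgroups T) ∧
      ∃ A ∈ maxAbelianSubgroups T, IsElementaryAbelian p A := by
  obtain ⟨Q, hQ, hQm⟩ := maxOmega_mem (T := T) p
  have h1 : (frattini ↥Q).map Q.subtype = ⊥ := le_bot_iff.mp (h ▸ le_iSup (fun Q : {Q : Subgroup T //
    IsMinimalCentrallyLarge Q ∧ Nat.card ↥(omegaOneCenter p Q) = maxOmegaCenterOfMinimalCL p T} =>
      (frattini ↥(Q : Subgroup T)).map (Q : Subgroup T).subtype) ⟨Q, hQ, hQm⟩)
  have h2 : frattini ↥Q = ⊥ := (Subgroup.map_eq_bot_iff_of_injective _ Q.subtype_injective).mp h1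
  have h3 := (Cfsg.Agent.Lib.PGroups.frattini_eq_bot_iff (hT.to_subgroup Q)).mp h2
  have hQel : IsElementaryAbelian p Q := Cfsg.Agent.Lib.PGroups.elemAb_mk
    (fun a ha b hb => congrArg Subtype.val
      (Cfsg.Agent.Lib.PGroups.elemAb_comm h3 (Subgroup.mem_top ⟨a, ha⟩) (Subgroup.mem_top ⟨b, hb⟩)))
    (fun a ha => congrArg Subtype.val (Cfsg.Agent.Lib.PGroups.elemAb_pow h3 (Subgroup.mem_top ⟨a, ha⟩)))
  exact ⟨fun R => abelian_minimal_iff hQ hQel.1 R, Q, (abelian_minimal_iff hQ hQel.1 Q).mp hQ, hQel⟩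

end Cfsg.Agent.Lib.LAEven57.PushingUp
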