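import Cfsg.Prelude.Def_BaumannBlocks
import Cfsg.Agent.Lib.LA5.Basic
import Cfsg.Agent.Lib.Cores.Basic
import Cfsg.Agent.Lib.Linear.Order

/-!
The standard Sylow subgroup of `PSL₂` in defining characteristic.
-/

set_option autoImplicit false

open Cfsg
open scoped Pointwise

namespace Cfsg.Agent.Lib.LAEven57.PushingUp

open Cfsg.Agent.Lib.LA5.Basic

variable (F : Type) [Field F]

/-- `SL₂(F)`. -/
abbrev SL2 := Matrix.SpecialLinearGroup (Fin 2) F

/-- `PSL₂(F)`. -/
abbrev PSL2 := Matrix.ProjectiveSpecialLinearGroup (Fin 2) F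

variable {F}

/-- The upper unitriangular matrix. -/
def uMat (x : F) : SL2 F := ⟨!![1, x; 0, 1], by simp [Matrix.det_fin_two_of]⟩

/-- The lower unitriangular matrix. -/
def lMat (x : F) : SL2 F := ⟨!![1, 0; x, 1], by simp [Matrix.det_fin_two_of]⟩

/-- The Weyl element. -/
def wMat : SL2 F := ⟨!![0, -1; 1, 0], by simp [Matrix.det_fin_two_of]⟩

/-- The diagonal matrix. -/
def dMat (a : F) (ha : a ≠ 0) : SL2 F := ⟨!![a, 0; 0, a⁻¹], by simp [Matrix.det_fin_two_of, ha]⟩

theorem sl_ext {g h : SL2 F} (e : (g : Matrix (Fin 2) (Fin 2) F) = h) : g = h := Subtype.ext e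

theorem uMat_add (x y : F) : uMat (x + y) = uMat x * uMat y := by
  apply sl_ext; simp only [Matrix.SpecialLinearGroup.coe_mul]; ext i j; fin_cases i <;> fin_cases j <;> simp [uMat, add_comm]

theorem uMat_zero : uMat (0 : F) = 1 := by
  apply sl_ext; ext i j; fin_cases i <;> fin_cases j <;> simp [uMat]

theorem dMat_conj (a : F) (ha : a ≠ 0) (x : F) : dMat a ha * uMat x = uMat (a ^ 2 * x) * dMat a ha := by
  apply sl_ext
  simp only [Matrix.SpecialLinearGroup.coe_mul]
  ext i j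
  fin_cases i <;> fin_cases j <;> simp [uMat, dMat]
  field_simp

theorem wMat_conj (x : F) : wMat * uMat x = lMat (-x) * wMat := by
  apply sl_ext
  simp only [Matrix.SpecialLinearGroup.coe_mul]
  ext i j
  fin_cases i <;> fin_cases j <;> simp [uMat, wMat, lMat]

theorem center_offdiag {z : SL2 F} (hz : z ∈ Subgroup.center (SL2 F)) :
    (z : Matrix (Fin 2) (Fin 2) F) 1 0 = 0 ∧ (z : Matrix (Fin 2) (Fin 2) F) 0 1 = 0 := by
  have h1 := congrArg (fun g : SL2 F => (g : Matrix (Fin 2) (Fin 2) F) 0 0)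
    (Subgroup.mem_center_iff.mp hz (uMat 1))
  have h2 := congrArg (fun g : SL2 F => (g : Matrix (Fin 2) (Fin 2) F) 1 1)
    (Subgroup.mem_center_iff.mp hz (lMat 1))
  simp only [Matrix.SpecialLinearGroup.coe_mul] at h1 h2
  simp [uMat, lMat, Matrix.mul_apply, Fin.sum_univ_two] at h1 h2
  exact ⟨h1, h2⟩

variable (F) in
/-- The root homomorphism into `PSL₂(F)`. -/
def uHom : Multiplicative F →* PSL2 F :=
  MonoidHom.mk' (fun x => QuotientGroup.mk' _ (uMat x.toAdd)) fun x y => by
    rw [toAdd_mul, uMat_add, map_mul]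

theorem uHom_apply (x : F) : uHom F (Multiplicative.ofAdd x) = QuotientGroup.mk' _ (uMat x) := rfl

theorem uHom_injective : Function.Injective (uHom F) := by
  rw [injective_iff_map_eq_one]
  intro x hx
  have h := center_offdiag ((QuotientGroup.eq_one_iff _).mp hx)
  simpa [uMat] using h.2

variable (F) in
/-- The standard Sylow subgroup. -/
def U : Subgroup (PSL2 F) := (uHom F).range

/-- The image of the Weyl element. -/
def wImg : PSL2 F := QuotientGroup.mk' _ wMat

theorem U_inf_conj : U F ⊓ (U F).map (MulAut.conj (wImg (F := F))).toMonoidHom = ⊥ := by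
  rw [eq_bot_iff]
  rintro g ⟨hg, hg'⟩
  obtain ⟨x, rfl⟩ := hg
  obtain ⟨_, ⟨y, rfl⟩, he⟩ := hg'
  have he' : QuotientGroup.mk' (Subgroup.center (SL2 F)) (lMat (-y.toAdd)) = uHom F x := by
    rw [← he]
    show _ = wImg * uHom F y * wImg⁻¹
    rw [eq_mul_inv_iff_mul_eq, wImg, ← map_mul, ← wMat_conj, map_mul]
    rfl
  have h : (lMat (-y.toAdd))⁻¹ * uMat x.toAdd ∈ Subgroup.center (SL2 F) := QuotientGroup.eq.mp he'
  have := (center_offdiag h).2
  simp only [Matrix.SpecialLinearGroup.coe_mul, Matrix.SpecialLinearGroup.coe_inv] at this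
  simp [lMat, uMat, Matrix.adjugate_fin_two, Matrix.mul_apply, Fin.sum_univ_two] at this
  refine Subgroup.mem_bot.mpr ?_
  rw [show x = 1 from this, map_one]

theorem U_ne_top : U F ≠ ⊤ := by
  intro h
  have h1 := U_inf_conj (F := F)
  rw [h, top_inf_eq, Subgroup.map_top_of_surjective _ (MulAut.conj (wImg (F := F))).surjective] at h1
  have h2 : uHom F (Multiplicative.ofAdd 1) = 1 := Subgroup.mem_bot.mp (h1 ▸ Subgroup.mem_top _)
  exact one_ne_zero (α := F) (Multiplicative.ofAdd.injective (uHom_injective (h2.trans (map_one _).symm)))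

theorem U_not_normal : ¬ (U F).Normal := by
  intro h
  have h1 := U_inf_conj (F := F)
  have h2 : (U F).map (MulAut.conj (wImg (F := F))).toMonoidHom = U F :=
    mem_normalizer_iff_conj_eq.mp (by rw [Subgroup.normalizer_eq_top_iff.mpr h]; exact Subgroup.mem_top _)
  rw [h2, inf_idem] at h1
  have h3 : uHom F (Multiplicative.ofAdd 1) = 1 := Subgroup.mem_bot.mp (h1 ▸ ⟨_, rfl⟩)
  exact one_ne_zero (α := F) (Multiplicative.ofAdd.injective (uHom_injective (h3.trans (map_one _).symm)))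

variable [Fintype F] {p n : ℕ} [hp : Fact p.Prime]

omit hp in
theorem card_U (hF : Fintype.card F = p ^ n) : Nat.card ↥(U F) = p ^ n := by
  rw [U, ← Nat.card_congr (MonoidHom.ofInjective uHom_injective).toEquiv, Nat.card_congr Multiplicative.toAdd,
    Nat.card_eq_fintype_card, hF]

theorem n_pos (hF : Fintype.card F = p ^ n) : 0 < n := by
  rcases Nat.eq_zero_or_pos n with rfl | h
  · rw [pow_zero] at hF; exact absurd hF Fintype.one_lt_card.ne'
  · exact h

theorem gcd_mul_index (hF : Fintype.card F = p ^ n) :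
    Nat.gcd 2 (p ^ n - 1) * (U F).index = (p ^ n - 1) * (p ^ n + 1) := by
  have h := Cfsg.Agent.Lib.Linear.gcd_mul_card_PSL_two (F := F)
  rw [← (U F).card_mul_index, card_U hF, hF] at h
  refine Nat.eq_of_mul_eq_mul_left (pow_pos hp.out.pos n) ?_
  calc p ^ n * (Nat.gcd 2 (p ^ n - 1) * (U F).index) = Nat.gcd 2 (p ^ n - 1) * (p ^ n * (U F).index) := by ring
    _ = p ^ n * (p ^ n - 1) * (p ^ n + 1) := h
    _ = _ := by ring

theorem U_index (hF : Fintype.card F = p ^ n) : ¬ p ∣ (U F).index := by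
  intro h
  have h1 : p ∣ (p ^ n - 1) * (p ^ n + 1) := gcd_mul_index (F := F) hF ▸ h.mul_left _
  have hpn : p ∣ p ^ n := dvd_pow_self p (n_pos hF).ne'
  have h2 : ∀ k, k = p ^ n - 1 ∨ k = p ^ n + 1 → ¬ p ∣ k := by
    rintro k (rfl | rfl) hk
    · have := Nat.dvd_sub hpn hk
      rw [Nat.sub_sub_self (Nat.one_le_pow _ _ hp.out.pos)] at this
      exact hp.out.ne_one (Nat.dvd_one.mp this)
    · exact hp.out.ne_one (Nat.dvd_one.mp ((Nat.dvd_add_right hpn).mp hk))
  rcases hp.out.dvd_mul.mp h1 with h3 | h3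
  · exact h2 _ (Or.inl rfl) h3
  · exact h2 _ (Or.inr rfl) h3

/-- The standard Sylow subgroup as a Sylow subgroup. -/
noncomputable def USylow (hF : Fintype.card F = p ^ n) : Sylow p (PSL2 F) :=
  (IsPGroup.of_card (card_U (F := F) hF)).toSylow (U_index hF)

theorem pCore_psl (hF : Fintype.card F = p ^ n) : pCore p (PSL2 F) = ⊥ := by
  rw [eq_bot_iff, ← U_inf_conj]
  have h1 : pCore p (PSL2 F) ≤ U F := Cfsg.Agent.Lib.Cores.pCore_le_sylow (USylow hF)
  refine le_inf h1 ?_
  intro x hx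
  have hn : (pCore p (PSL2 F)).Normal := inferInstance
  refine mem_conj_iff.mpr (h1 ?_)
  have := hn.conj_mem x hx (wImg (F := F))⁻¹
  simpa using this

theorem exists_orderOf_psl (hF : Fintype.card F = p ^ n) {r : ℕ} [Fact r.Prime] (hr2 : r ≠ 2)
    (hr : r ∣ p ^ n + 1) : ∃ x : PSL2 F, orderOf x = r := by
  refine exists_prime_orderOf_dvd_card' r ?_
  have h1 : r ∣ Nat.gcd 2 (p ^ n - 1) * (U F).index := gcd_mul_index (F := F) hF ▸ hr.mul_left _
  rcases (Fact.out : r.Prime).dvd_mul.mp h1 with h | h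
  · exact absurd ((Nat.prime_dvd_prime_iff_eq Fact.out Nat.prime_two).mp (h.trans (Nat.gcd_dvd_left _ _))) hr2
  · exact h.trans (U F).index_dvd_card

end Cfsg.Agent.Lib.LAEven57.PushingUp
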